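import Cfsg.Agent.H601.OddDeg.Defs
import Cfsg.Agent.Characters.Core
import Cfsg.Agent.Characters.Counting

/-!
# Multiplicities of the trivial character of a subgroup

`sB B χ g = ∑_{b ∈ B} χ (g b)` and `mul H χ = |H|⁻¹ ∑_{x ∈ H} χ x`, the multiplicity of the trivial character of `H`
in `χ`.

* `eq_of_fix` : an automorphism preserving every double coset of `B` fixes every irreducible character `χ` with
  `∑_{b ∈ B} χ b ≠ 0`;
* `sum_mult` : `∑ χ, mult H χ * χ 1 = |G : H|`.
-/

set_option autoImplicit false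

namespace Cfsg.Agent.H601.OddDeg

open Cfsg Subgroup Cfsg.Agent.Characters.Core
open scoped ComplexConjugate Classical

variable {G : Type*} [Group G] [Fintype G]

/-- `∑_{b ∈ B} χ (g b)` -/
noncomputable def sB (B : Subgroup G) (χ : G → ℂ) (g : G) : ℂ := ∑ b : G, if b ∈ B then χ (g * b) else 0

/-- the multiplicity of the trivial character of `H` in `χ` -/
noncomputable def mult (H : Subgroup G) (χ : G → ℂ) : ℂ := (Nat.card H : ℂ)⁻¹ * sB H χ 1

theorem sB_mul_right (B : Subgroup G) (χ : G → ℂ) (g : G) {b : G} (hb : b ∈ B) : sB B χ (g * b) = sB B χ g := by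
  unfold sB
  refine Fintype.sum_equiv (Equiv.mulLeft b) _ _ fun x => ?_
  simp only [Equiv.coe_mulLeft, mul_assoc, B.mul_mem_cancel_left hb]

theorem sB_mul_left (B : Subgroup G) {χ : G → ℂ} (hχ : IsClassFunction G χ) (g : G) {b : G} (hb : b ∈ B) :
    sB B χ (b * g) = sB B χ g := by
  unfold sB
  refine Fintype.sum_equiv (Equiv.mulRight b) _ _ fun x => ?_
  simp only [Equiv.coe_mulRight, B.mul_mem_cancel_right hb]
  by_cases hx : x ∈ B
  · rw [if_pos hx, if_pos hx]
    have := hχ (g * (x * b)) b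
    rw [← this]
    congr 1
    group
  · rw [if_neg hx, if_neg hx]

theorem sB_inv (B : Subgroup G) {χ : G → ℂ} (hχ : IsCharacter G χ) (g : G) : sB B χ g⁻¹ = conj (sB B χ g) := by
  unfold sB
  rw [map_sum]
  refine Fintype.sum_equiv (Equiv.inv G) _ _ fun x => ?_
  rw [Equiv.inv_apply, apply_ite conj, map_zero]
  simp only [B.inv_mem_iff]
  by_cases hx : x ∈ B
  · rw [if_pos hx, if_pos hx, ← isCharacter_apply_inv hχ]
    have h1 := isCharacter_isClassFunction hχ ((g * x⁻¹)⁻¹) x⁻¹
    rw [← h1]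
    congr 1
    group
  · rw [if_neg hx, if_neg hx]

/-- **An automorphism preserving all double cosets of `B` fixes the constituents of the permutation character on the
cosets of `B`.** -/
theorem eq_of_fix (B : Subgroup G) {χ : G → ℂ} (hχ : IsIrrCharacter G χ) (h0 : sB B χ 1 ≠ 0) (τ : G ≃* G)
    (hτ : ∀ g, ∃ b ∈ B, ∃ b' ∈ B, τ g = b * g * b') : ∀ g, χ (τ g) = χ g := by
  by_contra hne
  have hcl := isIrr_isClassFunction hχ
  set ψ : G → ℂ := fun g => χ (τ g) with hψ
  have hψirr : IsIrrCharacter G ψ := isIrr_comp τ.toMonoidHom τ.surjective hχ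
  have hψcl := isIrr_isClassFunction hψirr
  have hne' : ψ ≠ χ := fun h => hne fun g => congrFun h g
  have hτB : ∀ b, τ b ∈ B ↔ b ∈ B := by
    have h1 : ∀ b ∈ B, τ b ∈ B := by
      intro b hb
      obtain ⟨x, hx, y, hy, h⟩ := hτ b
      rw [h]
      exact mul_mem (mul_mem hx hb) hy
    intro b
    refine ⟨fun h => ?_, h1 b⟩
    obtain ⟨x, hx, y, hy, h'⟩ := hτ b
    have : b = x⁻¹ * τ b * y⁻¹ := by rw [h']; group
    rw [this]
    exact mul_mem (mul_mem (inv_mem hx) h) (inv_mem hy)
  -- convolution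
  have hconv : ∀ x : G, ∑ g : G, ψ g * χ (g⁻¹ * x) = 0 := by
    intro x
    obtain ⟨n, ρ, hρ, rfl⟩ := hχ
    obtain ⟨c, hc⟩ := exists_sum_smul_rho_inv_eq_smul_one hψcl ρ hρ
    have hval : ∀ x : G, ∑ g : G, ψ g * ρ.character (g⁻¹ * x) = c * ρ.character x := by
      intro x
      have h1 := congrArg (fun T : Module.End ℂ (Fin n → ℂ) => LinearMap.trace ℂ _ (T * ρ x)) hc
      simp only [Finset.sum_mul, smul_mul_assoc, map_sum, map_smul, one_mul, ← map_mul ρ] at h1
      exact h1
    have h2 := hval 1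
    have h3 : ∑ g : G, ψ g * ρ.character (g⁻¹ * 1) = (Nat.card G : ℂ) * classInner ψ ρ.character := by
      rw [classInner_def, ← mul_assoc, mul_inv_cancel₀ card_ne_zero_complex, one_mul]
      refine Finset.sum_congr rfl fun g _ => ?_
      rw [mul_one, isCharacter_apply_inv (isIrr_isCharacter (isIrrCharacter_of_rep ρ hρ))]
    rw [h3, classInner_irr_ne hψirr (isIrrCharacter_of_rep ρ hρ) hne', mul_zero] at h2
    have h4 : c = 0 := (mul_eq_zero.1 h2.symm).resolve_right (isIrr_apply_one_ne_zero (isIrrCharacter_of_rep ρ hρ))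
    rw [hval, h4, zero_mul]
  -- sum over `B`
  have h1 : ∑ g : G, ψ g * sB B χ g⁻¹ = 0 := by
    unfold sB
    simp only [Finset.mul_sum]
    rw [Finset.sum_comm]
    refine Finset.sum_eq_zero fun b _ => ?_
    by_cases hb : b ∈ B
    · simp only [if_pos hb]
      exact hconv b
    · simp [if_neg hb]
  have h2 : ∑ g : G, sB B ψ g * sB B χ g⁻¹ = 0 := by
    have h3 : ∀ b ∈ B, ∑ g : G, ψ (g * b) * sB B χ g⁻¹ = 0 := by
      intro b hb
      rw [← h1]
      refine Fintype.sum_equiv (Equiv.mulRight b) _ _ fun g => ?_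
      rw [Equiv.coe_mulRight, mul_inv_rev, sB_mul_left B hcl _ (inv_mem hb)]
    calc ∑ g : G, sB B ψ g * sB B χ g⁻¹
        = ∑ g : G, ∑ b : G, (if b ∈ B then ψ (g * b) * sB B χ g⁻¹ else 0) := by
          refine Finset.sum_congr rfl fun g _ => ?_
          rw [sB, Finset.sum_mul]
          refine Finset.sum_congr rfl fun b _ => ?_
          rw [ite_mul, zero_mul]
      _ = ∑ b : G, if b ∈ B then ∑ g : G, ψ (g * b) * sB B χ g⁻¹ else 0 := by
          rw [Finset.sum_comm]
          refine Finset.sum_congr rfl fun b _ => ?_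
          split_ifs
          · rfl
          · exact Finset.sum_const_zero
      _ = 0 := by
          refine Finset.sum_eq_zero fun b _ => ?_
          split_ifs with hb
          · exact h3 b hb
          · rfl
  have h3 : ∀ g, sB B ψ g = sB B χ g := by
    intro g
    have h4 : sB B ψ g = sB B χ (τ g) := by
      unfold sB
      refine Fintype.sum_equiv τ.toEquiv _ _ fun x => ?_
      simp only [hψ, MulEquiv.toEquiv_eq_coe, EquivLike.coe_coe, map_mul, hτB]
    obtain ⟨b, hb, b', hb', h⟩ := hτ g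
    rw [h4, h, sB_mul_right B χ _ hb', sB_mul_left B hcl _ hb]
  have h4 : ∑ g : G, (Complex.normSq (sB B χ g) : ℂ) = 0 := by
    rw [← h2]
    refine Finset.sum_congr rfl fun g _ => ?_
    rw [h3, sB_inv B (isIrr_isCharacter hχ), Complex.mul_conj]
  have h5 : ∑ g : G, Complex.normSq (sB B χ g) = 0 := by exact_mod_cast h4
  rw [Finset.sum_eq_zero_iff_of_nonneg fun g _ => Complex.normSq_nonneg _] at h5
  exact h0 (Complex.normSq_eq_zero.1 (h5 1 (Finset.mem_univ _)))

section Mult

theorem sB_one_eq (H : Subgroup G) (χ : G → ℂ) : sB H χ 1 = ∑ x : H, χ x := by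
  unfold sB
  simp only [one_mul]
  rw [← Finset.sum_filter]
  exact (Finset.sum_subtype _ (by simp) _)

theorem mult_eq_classInner (H : Subgroup G) (χ : G → ℂ) : mult H χ = classInner (fun x : H => χ x) 1 := by
  rw [mult, sB_one_eq, classInner_def]
  simp

/-- Multiplicities are natural numbers. -/
theorem exists_mult_eq (H : Subgroup G) {χ : G → ℂ} (hχ : IsCharacter G χ) : ∃ n : ℕ, mult H χ = n := by
  rw [mult_eq_classInner]
  exact classInner_isNat (isCharacter_comp H.subtype hχ) isCharacter_one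

theorem mult_ne_zero_iff (H : Subgroup G) (χ : G → ℂ) : mult H χ ≠ 0 ↔ sB H χ 1 ≠ 0 := by
  have : (Nat.card H : ℂ) ≠ 0 := Nat.cast_ne_zero.2 Nat.card_pos.ne'
  rw [mult, mul_ne_zero_iff]
  exact ⟨fun h => h.2, fun h => ⟨inv_ne_zero this, h⟩⟩

/-- the dimension of the fixed space -/
theorem mult_eq_finrank (H : Subgroup G) {V : Type*} [AddCommGroup V] [Module ℂ V] [FiniteDimensional ℂ V]
    (ρ : Representation ℂ G V) :
    mult H ρ.character = Module.finrank ℂ (Representation.invariants (ρ.comp H.subtype)) := by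
  have h1 : (Nat.card H : ℂ) ≠ 0 := Nat.cast_ne_zero.2 Nat.card_pos.ne'
  have h2 : Invertible (Fintype.card H : ℂ) := invertibleOfNonzero (by rwa [← Nat.card_eq_fintype_card])
  have h3 : LinearMap.trace ℂ V (Representation.averageMap (ρ.comp H.subtype)) =
      Module.finrank ℂ (Representation.invariants (ρ.comp H.subtype)) :=
    (Representation.isProj_averageMap (ρ.comp H.subtype)).trace
  rw [← h3, mult, sB_one_eq]
  simp [Representation.averageMap, GroupAlgebra.average, Representation.character]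

/-- Larger subgroups have smaller multiplicities. -/
theorem mult_ne_zero_of_le {H H' : Subgroup G} (hle : H ≤ H') {χ : G → ℂ} (hχ : IsCharacter G χ)
    (h : mult H' χ ≠ 0) : mult H χ ≠ 0 := by
  obtain ⟨n, ρ, rfl⟩ := hχ
  rw [mult_eq_finrank] at h ⊢
  have h1 : Module.finrank ℂ (Representation.invariants (ρ.comp H'.subtype)) ≤
      Module.finrank ℂ (Representation.invariants (ρ.comp H.subtype)) := by
    apply Submodule.finrank_mono
    intro v hv x
    exact hv ⟨x, hle x.2⟩
  have h2 : Module.finrank ℂ (Representation.invariants (ρ.comp H'.subtype)) ≠ 0 :=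
    fun h0 => h (by rw [h0]; exact Nat.cast_zero)
  exact Nat.cast_ne_zero.2 (by omega)

theorem mult_one (H : Subgroup G) : mult H (1 : G → ℂ) = 1 := by
  rw [mult_eq_classInner]
  exact classInner_irr_self isIrr_one

theorem mult_conj (H : Subgroup G) {χ : G → ℂ} (hχ : IsCharacter G χ) : mult H (fun g => conj (χ g)) = mult H χ := by
  have h1 : mult H (fun g => conj (χ g)) = conj (mult H χ) := by
    rw [mult, mult, sB_one_eq, sB_one_eq, map_mul, map_sum]
    simp
  obtain ⟨n, hn⟩ := exists_mult_eq H hχ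
  rw [h1, hn]
  simp

/-- transport by an automorphism -/
theorem mult_comp (H H' : Subgroup G) (χ : G → ℂ) (τ : G ≃* G) (h : ∀ x, τ x ∈ H' ↔ x ∈ H) :
    mult H (fun g => χ (τ g)) = mult H' χ := by
  have h1 : Nat.card H = Nat.card H' := by
    refine Nat.card_congr (τ.toEquiv.subtypeEquiv fun x => ?_)
    exact (h x).symm
  rw [mult, mult, h1]
  congr 1
  unfold sB
  refine Fintype.sum_equiv τ.toEquiv _ _ fun x => ?_
  simp only [one_mul, MulEquiv.toEquiv_eq_coe, EquivLike.coe_coe, h]

/-- the degree of the permutation character -/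
theorem sum_mult [Fintype (IrrCharacter G)] (H : Subgroup G) :
    ∑ χ : IrrCharacter G, mult H (χ : G → ℂ) * (χ : G → ℂ) 1 = H.index := by
  have h1 : (Nat.card H : ℂ) ≠ 0 := Nat.cast_ne_zero.2 Nat.card_pos.ne'
  have h2 : ∀ χ : IrrCharacter G, mult H (χ : G → ℂ) * (χ : G → ℂ) 1 =
      (Nat.card H : ℂ)⁻¹ * ∑ x : H, (χ : G → ℂ) 1 * (χ : G → ℂ) x := by
    intro χ
    rw [mult, sB_one_eq, Finset.mul_sum, Finset.mul_sum, Finset.sum_mul]
    refine Finset.sum_congr rfl fun x _ => ?_
    ring
  rw [Finset.sum_congr rfl fun χ _ => h2 χ, ← Finset.mul_sum, Finset.sum_comm]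
  simp only [Characters.Counting.sum_irr_one_mul]
  rw [Finset.sum_eq_single (1 : H)]
  · rw [if_pos (by simp), ← H.card_mul_index]
    push_cast
    rw [← mul_assoc, inv_mul_cancel₀ h1, one_mul]
  · intro x _ hx
    rw [if_neg]
    exact fun h => hx (Subtype.ext h)
  · intro h
    exact absurd (Finset.mem_univ _) h

end Mult

end Cfsg.Agent.H601.OddDeg
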