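import Cfsg.Agent.H601.OddDeg.Rows
import Cfsg.Agent.H618.InvPSL3
import Cfsg.Agent.H321.Orders

/-!
# `PSL_3(q)` and `PSU_3(q)`, `q` odd
-/

set_option autoImplicit false
set_option linter.unusedSectionVars false

namespace Cfsg.Agent.H601.OddDeg.Small

open Cfsg Cfsg.Agent.FixBN Cfsg.Agent.Omega.ML.Ex.Typ Cfsg.Agent.Characters.Core

universe u

theorem inv_one {K : Type u} [Group K] [Finite K] : Inv (1 : K → ℂ) := by
  refine ⟨isIrr_one, fun x => by simp, ?_, fun φ x => rfl⟩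
  rw [charDegree]
  simp

/-- two different degrees, different from one -/
theorem three_of_degrees {K : Type u} [Group K] [Finite K] {χ ψ : K → ℂ} (hχ : Inv χ) (hψ : Inv ψ) (h1 : χ 1 ≠ 1)
    (h2 : ψ 1 ≠ 1) (h3 : χ 1 ≠ ψ 1) : ThreeInv K := by
  refine ⟨1, χ, ψ, inv_one, hχ, hψ, ?_, ?_, ?_⟩
  · rintro rfl
    exact h1 rfl
  · rintro rfl
    exact h2 rfl
  · rintro rfl
    exact h3 rfl

/-- the Steinberg character of a group with a root group datum -/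
theorem exists_st {K : Type u} [Group K] [Finite K] [IsSimpleGroup K] {p : ℕ} (hp : p.Prime) (hp2 : p ≠ 2) {l : ℕ}
    (hl : 0 < l) {M : CoxeterMatrix (Fin l)} (h : HasRGDT p M K) :
    ∃ (Q : Sylow p K) (χ : K → ℂ), Inv χ ∧ χ 1 = Nat.card Q ∧ p ∣ Nat.card Q := by
  have : Fact p.Prime := ⟨hp⟩
  have := Fintype.ofFinite K
  obtain ⟨P, U, e, hs, hM⟩ := h.hasSplitT hp hl
  obtain ⟨Q, hQ⟩ := H612.CharTwo.exists_sylow hs
  obtain ⟨χ, h1, h2, -⟩ := SteinbergInv.inv_of_split hs hp hp2 hM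
  refine ⟨Q, χ, h1, ?_, ?_⟩
  · have h3 : Nat.card (Q : Subgroup K) = Nat.card U := by rw [hQ]
    rw [h2, ← h3]
  · obtain ⟨V, hV⟩ := hs.node (e ⟨0, hl⟩) (e ⟨0, hl⟩).2
    obtain ⟨u, hu, huV⟩ := hV.ne
    have h3 : Nat.card (Q : Subgroup K) ≠ 1 := by
      intro h4
      rw [Subgroup.card_eq_one] at h4
      rw [hQ] at h4
      rw [h4, Subgroup.mem_bot] at hu
      rw [hu] at huV
      exact huV (one_mem _)
    obtain ⟨k, hk⟩ := IsPGroup.iff_card.1 Q.2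
    change p ∣ Nat.card (Q : Subgroup K)
    rw [hk] at h3 ⊢
    refine dvd_pow_self p ?_
    rintro rfl
    exact h3 (pow_zero p)

variable {F : Type} [Field F] [Fintype F] {p : ℕ} [CharP F p]

omit [Fintype F] in
theorem two_ne (hp2 : p ≠ 2) : (2 : F) ≠ 0 := by
  intro h
  have h1 : p ∣ 2 := (CharP.cast_eq_zero_iff F p 2).1 (by exact_mod_cast h)
  rcases (Nat.dvd_prime Nat.prime_two).1 h1 with h2 | h2
  · subst h2
    exact CharP.ringChar_ne_one (R := F) ((CharP.eq F (ringChar.charP F) inferInstance))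
  · exact hp2 h2

theorem three_psl3 (hp : p.Prime) (hp2 : p ≠ 2) [IsSimpleGroup (Matrix.ProjectiveSpecialLinearGroup (Fin 3) F)] :
    ThreeInv (Matrix.ProjectiveSpecialLinearGroup (Fin 3) F) := by
  have : Fact p.Prime := ⟨hp⟩
  obtain ⟨χ, hχ, hχ1⟩ := H618.InvPSL3.exists_inv_psl3 (two_ne (F := F) hp2)
  obtain ⟨Q, ψ, hψ, hψ1, hQ⟩ := exists_st hp hp2 (by norm_num) (typ_PSL (F := F) 2 (p := p))
  have h2 : p ∣ Fintype.card F := by
    have h3 : ((Fintype.card F : ℕ) : F) = 0 := FiniteField.cast_card_eq_zero F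
    exact (CharP.cast_eq_zero_iff F p _).1 h3
  refine three_of_degrees hχ hψ ?_ ?_ ?_
  · rw [hχ1]
    have h3 : Fintype.card F ^ 2 + Fintype.card F + 1 ≠ 1 := by
      have := Fintype.card_pos (α := F)
      omega
    exact_mod_cast h3
  · rw [hψ1]
    have h3 : Nat.card Q ≠ 1 := by
      intro h4
      rw [h4] at hQ
      exact hp.one_lt.ne' (Nat.dvd_one.1 hQ)
    exact_mod_cast h3
  · rw [hχ1, hψ1]
    have h3 : Fintype.card F ^ 2 + Fintype.card F + 1 ≠ Nat.card Q := by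
      intro h4
      rw [← h4] at hQ
      have h5 : p ∣ Fintype.card F ^ 2 + Fintype.card F := dvd_add (dvd_pow h2 two_ne_zero) h2
      have h6 := (Nat.dvd_add_right h5).1 hQ
      exact hp.one_lt.ne' (Nat.dvd_one.1 h6)
    exact_mod_cast h3

/-- the order of the Sylow `p`-subgroups of `PSU_3(q)` -/
theorem card_sylow_psu3 (hp : p.Prime) {q : ℕ} (hF : Fintype.card F = q ^ 2)
    (Q : Sylow p (PSU 3 F q)) : Nat.card Q = q ^ 3 := by
  have : Fact p.Prime := ⟨hp⟩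
  have h1 := H321.Orders.psu_eq (F := F) (n := 3) hF (by norm_num)
  obtain ⟨n, hn⟩ : ∃ n, q = p ^ n := by
    obtain ⟨m, hpm, hm⟩ := FiniteField.card F p
    have h2 : q ∣ p ^ (m : ℕ) := by
      rw [← hm, hF]
      exact dvd_pow_self q two_ne_zero
    obtain ⟨n, -, hn⟩ := (Nat.dvd_prime_pow hp).1 h2
    exact ⟨n, hn⟩
  have hn1 : n ≠ 0 := by
    rintro rfl
    have h2 := Fintype.one_lt_card (α := F)
    rw [hF, hn] at h2
    simp at h2
  have hpq : p ∣ q := by rw [hn]; exact dvd_pow_self p hn1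
  have hq0 : 0 < q := by rw [hn]; exact pow_pos hp.pos n
  have hpr : OrdDiv.prU q 3 = (q + 1) * (q ^ 2 - 1) * (q ^ 3 + 1) := by
    unfold OrdDiv.prU
    simp [List.range_succ, mul_assoc]
  have hnp : ∀ k, k ≠ 0 → ¬ p ∣ q ^ k + 1 := by
    intro k hk h2
    have h3 := (Nat.dvd_add_right (dvd_pow hpq hk)).1 h2
    exact hp.one_lt.ne' (Nat.dvd_one.1 h3)
  have hnm : ¬ p ∣ q ^ 2 - 1 := by
    intro h2
    have h3 : 1 ≤ q ^ 2 := Nat.one_le_pow _ _ hq0
    have h4 : p ∣ q ^ 2 - (q ^ 2 - 1) := Nat.dvd_sub (dvd_pow hpq two_ne_zero) h2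
    have h5 : q ^ 2 - (q ^ 2 - 1) = 1 := by omega
    rw [h5] at h4
    exact hp.one_lt.ne' (Nat.dvd_one.1 h4)
  have hn1' : ¬ p ∣ q + 1 := by simpa using hnp 1 one_ne_zero
  have hb : ¬ p ∣ OrdDiv.prU q 3 := by
    rw [hpr, hp.dvd_mul, hp.dvd_mul]
    push Not
    exact ⟨⟨hn1', hnm⟩, hnp 3 (by norm_num)⟩
  have ha : ¬ p ∣ Nat.gcd 3 (q + 1) * (q + 1) := by
    rw [hp.dvd_mul]
    push Not
    exact ⟨fun h => hn1' (h.trans (Nat.gcd_dvd_right _ _)), hn1'⟩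
  have h2 := congrArg (fun m : ℕ => m.factorization p) h1
  have ha0 : Nat.gcd 3 (q + 1) * (q + 1) ≠ 0 := fun h => ha (by rw [h]; exact dvd_zero p)
  have hb0 : OrdDiv.prU q 3 ≠ 0 := fun h => hb (by rw [h]; exact dvd_zero p)
  rw [Nat.factorization_mul ha0 Nat.card_pos.ne', Nat.factorization_mul (pow_pos hq0 _).ne' hb0, Finsupp.add_apply, Finsupp.add_apply,
    Nat.factorization_eq_zero_of_not_dvd ha, Nat.factorization_eq_zero_of_not_dvd hb, zero_add, add_zero] at h2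
  rw [Q.card_eq_multiplicity, h2, hn, ← pow_mul, hp.factorization_pow, Finsupp.single_eq_same]

/-- `PSU_3(q)`, from a character of degree different from `1`, `q ^ 3` -/
theorem three_psu3_of (hp : p.Prime) (hp2 : p ≠ 2) {q : ℕ} (hF : Fintype.card F = q ^ 2)
    [IsSimpleGroup (PSU 3 F q)]
    (h : ∃ χ : PSU 3 F q → ℂ, Inv χ ∧ χ 1 ≠ 1 ∧ χ 1 ≠ (q : ℂ) ^ 3) : ThreeInv (PSU 3 F q) := by
  have : Fact p.Prime := ⟨hp⟩
  obtain ⟨χ, hχ, h1, h2⟩ := h
  obtain ⟨m, hm, hR⟩ := typ_PSU (p := p) hF (N := 3) le_rfl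
  obtain ⟨Q, ψ, hψ, hψ1, hQ⟩ := exists_st hp hp2 (by omega) hR
  refine three_of_degrees hχ hψ h1 ?_ ?_
  · rw [hψ1]
    have h3 : Nat.card Q ≠ 1 := by
      intro h4
      rw [h4] at hQ
      exact hp.one_lt.ne' (Nat.dvd_one.1 hQ)
    exact_mod_cast h3
  · rw [hψ1, card_sylow_psu3 hp hF Q]
    push_cast
    exact h2

end Cfsg.Agent.H601.OddDeg.Small
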