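import Cfsg.Agent.H612.BNAut
import Cfsg.Agent.Tits.Gate

/-!
# Parity of the index of parabolic subgroups of Coxeter groups
-/

set_option autoImplicit false
set_option linter.unusedSectionVars false

namespace Cfsg.Agent.H601.OddDeg.Idx

open Cfsg Cfsg.Agent.Tits.Core Cfsg.Agent.Tits.OppRes

variable {I W : Type*} [Group W] [Finite W] [Finite I] {M : CoxeterMatrix I} (cs : CoxeterSystem M W)

omit [Finite W] in
theorem card_WJ_single (i : I) : Nat.card (WJ cs {i}) = 2 := by
  have h1 : ((WJ cs {i} : Subgroup W) : Set W) = {1, cs.simple i} := by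
    ext w
    constructor
    · intro hw
      unfold WJ at hw
      have h2 : w ∈ Subgroup.zpowers (cs.simple i) := by
        refine (Subgroup.closure_le _).2 ?_ hw
        rintro _ ⟨j, hj, rfl⟩
        rw [Set.mem_singleton_iff.1 hj]
        exact Subgroup.mem_zpowers _
      obtain ⟨k, rfl⟩ := Subgroup.mem_zpowers_iff.1 h2
      rcases Int.even_or_odd' k with ⟨m, rfl | rfl⟩
      · left
        rw [zpow_mul]
        have : cs.simple i ^ (2 : ℤ) = 1 := by
          have := cs.simple_sq i
          exact_mod_cast this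
        rw [this, one_zpow]
      · right
        rw [zpow_add, zpow_mul, zpow_one]
        have : cs.simple i ^ (2 : ℤ) = 1 := by
          have := cs.simple_sq i
          exact_mod_cast this
        rw [this, one_zpow, one_mul]
        rfl
    · rintro (rfl | hw)
      · exact one_mem _
      · rw [Set.mem_singleton_iff] at hw
        subst hw
        exact Subgroup.subset_closure ⟨i, rfl, rfl⟩
  have h2 : Nat.card (WJ cs {i}) = ({1, cs.simple i} : Set W).ncard := by
    rw [← h1]
    rfl
  rw [h2, Set.ncard_pair]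
  exact (Cfsg.Agent.H612.BNAut.simple_ne_one cs i).symm

/-- `|W : W_{i}|` is even if some dihedral subgroup has order divisible by `4`. -/
theorem index_single (i : I) {j k : I} (hjk : j ≠ k) (h : 2 ∣ M j k) : 2 ∣ (WJ cs {i}).index := by
  have h1 := (WJ cs {i}).card_mul_index
  have h2 := (WJ cs {j, k}).card_subgroup_dvd_card
  rw [Cfsg.Agent.H612.BNAut.card_WJ_pair cs hjk] at h2
  rw [card_WJ_single] at h1
  have h3 : 2 * 2 ∣ 2 * (WJ cs {i}).index := by
    rw [h1]
    exact (Nat.mul_dvd_mul_left 2 h).trans h2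
  exact Nat.dvd_of_mul_dvd_mul_left two_pos h3

/-- `|W : W_{i,j}|` is even if `i`, `j` are orthogonal and some dihedral subgroup has order divisible by `8`. -/
theorem index_pair {i j : I} (hij : i ≠ j) (h2 : M i j = 2) {k l : I} (hkl : k ≠ l) (h : 4 ∣ M k l) :
    2 ∣ (WJ cs {i, j}).index := by
  have h1 := (WJ cs {i, j}).card_mul_index
  have h3 := (WJ cs {k, l}).card_subgroup_dvd_card
  rw [Cfsg.Agent.H612.BNAut.card_WJ_pair cs hkl] at h3
  rw [Cfsg.Agent.H612.BNAut.card_WJ_pair cs hij, h2] at h1
  have h4 : 4 * 2 ∣ 4 * (WJ cs {i, j}).index := by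
    have h5 : 4 * (WJ cs {i, j}).index = Nat.card W := by rw [← h1]
    rw [h5]
    refine Dvd.dvd.trans ?_ h3
    have h6 := Nat.mul_dvd_mul_left 2 h
    simpa using h6
  exact Nat.dvd_of_mul_dvd_mul_left (by norm_num) h4

end Cfsg.Agent.H601.OddDeg.Idx
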