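import Cfsg.Agent.H601.OddDeg.Perm
import Cfsg.Agent.H163.Steinberg
import Cfsg.Agent.FixBN.TwOfBN
import Cfsg.Agent.H612.BNCosets

/-!
# The Steinberg character is real and invariant under automorphisms

* `inv_of_split` : a finite group with a split (B,N)-pair of odd characteristic and positive rank has a character `χ`
  with `Inv χ`, `χ 1 = |U|`, and `mult (PJ P e {i}) χ = 0` for all nodes `i`.
-/

set_option autoImplicit false
set_option linter.unusedSectionVars false

namespace Cfsg.Agent.H601.OddDeg.SteinbergInv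

open Cfsg Cfsg.Agent.Tits.Core Cfsg.Agent.Tits.Core.Bldg Cfsg.Agent.FixBN Cfsg.Agent.H163.Steinberg
open Cfsg.Agent.Tits.OfBN Cfsg.Agent.FixBN.OfBN Cfsg.Agent.FixBN.TwOfBN Cfsg.Agent.H612.BNCosets
open Cfsg.Agent.Characters.Core Cfsg.Agent.Tits.OppRes
open scoped ComplexConjugate Classical

section Building

variable {I : Type*} {M : CoxeterMatrix I} {W : Type*} [Group W] [Finite W] {cs : CoxeterSystem M W} {C : Type*}
  [Fintype C] {Δ : Bldg cs C} {G : Type*} [Group G] [MulAction G C] [Finite G] {p : ℕ} (S : FixBN.Sys Δ G p)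

/-- complex conjugation on the Steinberg space -/
theorem conj_mem {f : C → ℂ} (hf : f ∈ St Δ) : (fun x => conj (f x)) ∈ St Δ := by
  intro i x
  have h1 := hf i x
  unfold psum at h1 ⊢
  have h2 := congrArg (fun z : ℂ => conj z) h1
  simp only [map_sum, map_zero] at h2
  refine Eq.trans ?_ h2
  refine Finset.sum_congr rfl fun y _ => ?_
  split_ifs
  · rfl
  · simp

/-- The Steinberg character is real-valued. -/
theorem character_im [Nonempty C] (g : G) : ((rep (G := G) S.iso).character g).im = 0 := by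
  obtain ⟨c⟩ := (inferInstance : Nonempty C)
  let E := resEquiv Δ c
  have htr : (rep (G := G) S.iso).character g = LinearMap.trace ℂ _ (E.conj (rep (G := G) S.iso g)) := by
    rw [LinearMap.trace_conj']
    rfl
  rw [htr, LinearMap.trace_eq_matrix_trace ℂ (Pi.basisFun ℂ {d // Δ.Opp c d}), Matrix.trace, Complex.im_sum]
  refine Finset.sum_eq_zero fun e _ => ?_
  rw [Matrix.diag_apply, LinearMap.toMatrix_apply, Pi.basisFun_apply, Pi.basisFun_repr, LinearEquiv.conj_apply_apply]
  -- the function `E.symm (single e)` is real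
  set f : St Δ := E.symm (Pi.single e (1 : ℂ)) with hf
  have hfe : res Δ c f = Pi.single e (1 : ℂ) := E.apply_symm_apply _
  have hreal : (⟨fun x => conj ((f : C → ℂ) x), conj_mem f.2⟩ : St Δ) = f := by
    apply res_injective Δ c
    rw [hfe]
    funext d
    change conj ((f : C → ℂ) d) = _
    have h1 : (f : C → ℂ) d = (Pi.single e (1 : ℂ) : {d // Δ.Opp c d} → ℂ) d := congrFun hfe d
    rw [h1, Pi.single_apply]
    split_ifs
    · exact map_one _
    · exact map_zero _
  change ((f : C → ℂ) (g⁻¹ • (e : C))).im = 0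
  have h2 := congrFun (congrArg Subtype.val hreal) (g⁻¹ • (e : C))
  exact Complex.conj_eq_iff_im.1 h2

/-- Transport of the Steinberg character by a map of buildings. -/
theorem character_map (α : G → G) (θ : C ≃ C) (σ : I → I) (hσ : Function.Surjective σ)
    (hθ : ∀ (k : G) (x : C), θ (k • x) = α k • θ x)
    (hpan : ∀ (i : I) (x y : C), θ y ∈ Δ.Pan (σ i) (θ x) ↔ y ∈ Δ.Pan i x) (k : G) :
    (rep (G := G) S.iso).character (α k) = (rep (G := G) S.iso).character k := by
  have hmem : ∀ f : C → ℂ, f ∈ St Δ → (fun x => f (θ.symm x)) ∈ St Δ := by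
    intro f hf i x
    obtain ⟨i, rfl⟩ := hσ i
    obtain ⟨x, rfl⟩ := θ.surjective x
    have h1 := hf i x
    unfold psum at h1 ⊢
    refine Eq.trans ?_ h1
    refine (Fintype.sum_equiv θ _ _ fun y => ?_).symm
    simp only [hpan, Equiv.symm_apply_apply]
  have hmem' : ∀ f : C → ℂ, f ∈ St Δ → (fun x => f (θ x)) ∈ St Δ := by
    intro f hf i x
    have h1 := hf (σ i) (θ x)
    unfold psum at h1 ⊢
    refine Eq.trans ?_ h1
    refine Fintype.sum_equiv θ _ _ fun y => ?_
    simp only [hpan]
  let E : St Δ ≃ₗ[ℂ] St Δ :=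
    { toFun := fun f => ⟨fun x => (f : C → ℂ) (θ.symm x), hmem _ f.2⟩
      invFun := fun f => ⟨fun x => (f : C → ℂ) (θ x), hmem' _ f.2⟩
      map_add' := fun _ _ => rfl
      map_smul' := fun _ _ => rfl
      left_inv := fun f => by
        apply Subtype.ext
        funext x
        change (f : C → ℂ) (θ.symm (θ x)) = _
        rw [Equiv.symm_apply_apply]
      right_inv := fun f => by
        apply Subtype.ext
        funext x
        change (f : C → ℂ) (θ (θ.symm x)) = _
        rw [Equiv.apply_symm_apply] }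
  have h1 : rep (G := G) S.iso (α k) = E.conj (rep (G := G) S.iso k) := by
    refine LinearMap.ext fun f => ?_
    rw [LinearEquiv.conj_apply_apply]
    apply Subtype.ext
    funext x
    change (f : C → ℂ) ((α k)⁻¹ • x) = (f : C → ℂ) (θ (k⁻¹ • θ.symm x))
    obtain ⟨y, rfl⟩ : ∃ y, θ (k • y) = x := ⟨k⁻¹ • θ.symm x, by rw [smul_inv_smul, Equiv.apply_symm_apply]⟩
    rw [Equiv.symm_apply_apply, inv_smul_smul, hθ, inv_smul_smul]
  change LinearMap.trace ℂ _ (rep (G := G) S.iso (α k)) = LinearMap.trace ℂ _ (rep (G := G) S.iso k)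
  rw [h1, LinearMap.trace_conj']

/-- A `U c`-invariant function of the Steinberg space vanishing at `c` is zero. -/
theorem eq_zero_of_inv (ht : ∀ x y : C, ∃ g : G, g • x = y) {c : C} {f : St Δ}
    (hf : ∀ u ∈ S.U c, rep (G := G) S.iso u f = f) (h0 : (f : C → ℂ) c = 0) : f = 0 := by
  by_contra hne
  have : Fintype (S.U c) := Fintype.ofFinite _
  obtain ⟨d, hd⟩ : ∃ d, (f : C → ℂ) d ≠ 0 := by
    by_contra hcon
    push Not at hcon
    exact hne (Subtype.ext (funext hcon))
  obtain ⟨g, hg⟩ := ht d c
  set f' := rep (G := G) S.iso g f with hf'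
  set v : St Δ := ∑ u : S.U c, rep (G := G) S.iso (u : G) f' with hv
  have hvc : (v : C → ℂ) c ≠ 0 := by
    have h2 : ∀ u : S.U c, ((rep (G := G) S.iso (u : G) f' : St Δ) : C → ℂ) c = (f : C → ℂ) d := by
      intro u
      rw [rep_apply, S.fix c _ (inv_mem u.2), hf', rep_apply, ← hg, inv_smul_smul]
    rw [hv, Submodule.coe_sum, Finset.sum_apply, Finset.sum_congr rfl fun u _ => h2 u, Finset.sum_const,
      nsmul_eq_mul]
    refine mul_ne_zero ?_ hd
    rw [Finset.card_univ]
    exact Nat.cast_ne_zero.2 Fintype.card_ne_zero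
  have hvinv : ∀ u ∈ S.U c, rep (G := G) S.iso u v = v := by
    intro u hu
    rw [hv, map_sum]
    refine Fintype.sum_equiv (Equiv.mulLeft (⟨u, hu⟩ : S.U c)) _ _ fun v => ?_
    change _ = rep (G := G) S.iso (u * v) f'
    rw [map_mul]
    rfl
  obtain ⟨e, he, hve⟩ := exists_opp_ne_zero (c := c) S hne
  obtain ⟨a, ha⟩ := inv_eq_smul S he hf hvinv hve
  apply hvc
  rw [ha]
  change a * (f : C → ℂ) c = 0
  rw [h0, mul_zero]

end Building

section BN

variable {K : Type*} [Group K] [Fintype K] {P : Cfsg.BNPair K} {p : ℕ} {U : Subgroup K}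

/-- **The Steinberg character of a finite group with a split (B,N)-pair of odd characteristic.** -/
theorem inv_of_split (hs : Split P p U) (hp : p.Prime) (hp2 : p ≠ 2) {I : Type*} {M : CoxeterMatrix I}
    {e : I ≃ P.S} (hM : BNType P M e) :
    ∃ χ : K → ℂ, Inv χ ∧ χ 1 = Nat.card U ∧ ∀ i, mult (PJ P e {i}) χ = 0 := by
  have : Fact p.Prime := ⟨hp⟩
  obtain ⟨hN, cs, hcs⟩ := hM
  have hI : Finite I := finite_I e
  have : Fintype (K ⧸ P.B) := Fintype.ofFinite _
  set Δ := bldg P e cs hcs with hΔ
  set S := sys e cs hcs hs with hS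
  have ht : ∀ x y : K ⧸ P.B, ∃ g : K, g • x = y := fun x y => MulAction.exists_smul_eq K x y
  have hopp : ∀ c : K ⧸ P.B, ∃ d, Δ.Opp c d := fun c => Tits.Opp.exists_opp Δ c
  set c0 : K ⧸ P.B := QuotientGroup.mk 1 with hc0
  have hirr := isIrreducible S ht c0 (hopp c0)
  have hU : S.U c0 = U := by
    ext u
    change u ∈ UU P U (QuotientGroup.mk 1) ↔ _
    rw [mem_UU hs]
    simp
  have hχirr : IsIrrCharacter K (rep (G := K) S.iso).character := isIrrCharacter_of_rep _ hirr
  have h1 : (rep (G := K) S.iso).character 1 = Nat.card U := by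
    rw [character_apply S c0 (hopp c0) 1 (one_mem _), if_pos rfl, hU]
  have hcl := isIrr_isClassFunction hχirr
  refine ⟨(rep (G := K) S.iso).character, ⟨hχirr, fun x => character_im S x, ?_, ?_⟩, h1, ?_⟩
  · -- odd degree
    rw [charDegree, h1]
    have h2 := odd_card hs hp hp2
    rw [Complex.natCast_re, Nat.floor_natCast, ← even_iff_two_dvd, Nat.not_even_iff_odd]
    exact h2
  · -- invariance
    intro τ x
    obtain ⟨g, hg⟩ := exists_conj hs τ
    set α : K ≃* K := τ.trans (MulAut.conj g⁻¹) with hαdef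
    have hα' : ∀ b, α b = g⁻¹ * τ b * g := by
      intro b
      rw [hαdef]
      simp
    have hα : ∀ b, α b ∈ P.B ↔ b ∈ P.B := fun b => by rw [hα']; exact hg b
    have h3 : (rep (G := K) S.iso).character (τ x) = (rep (G := K) S.iso).character (α x) := by
      rw [hα']
      have := hcl (τ x) g⁻¹
      rw [inv_inv] at this
      exact this.symm
    rw [h3]
    -- the map on chambers
    have hwd : ∀ a b : K, a⁻¹ * b ∈ P.B ↔ (α a)⁻¹ * α b ∈ P.B := by
      intro a b
      rw [← map_inv, ← map_mul, hα]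
    let θ₀ : K ⧸ P.B → K ⧸ P.B := Quotient.lift (fun a : K => (QuotientGroup.mk (α a) : K ⧸ P.B))
      (fun a b h => OfBN.mk_eq.2 ((hwd a b).1 (QuotientGroup.leftRel_apply.1 h)))
    have hθ₀ : ∀ a : K, θ₀ (QuotientGroup.mk a) = QuotientGroup.mk (α a) := fun a => rfl
    have hbij : Function.Bijective θ₀ := by
      constructor
      · intro x y hxy
        induction x using QuotientGroup.induction_on with
        | _ a =>
        induction y using QuotientGroup.induction_on with
        | _ b =>
        rw [hθ₀, hθ₀, OfBN.mk_eq] at hxy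
        rw [OfBN.mk_eq]
        exact (hwd a b).2 hxy
      · intro y
        induction y using QuotientGroup.induction_on with
        | _ b => exact ⟨QuotientGroup.mk (α.symm b), by rw [hθ₀, α.apply_symm_apply]⟩
    let θ : K ⧸ P.B ≃ K ⧸ P.B := Equiv.ofBijective θ₀ hbij
    have hC : Cox cs := inferInstance
    have hσinj : Function.Injective (sigma α hα e cs hcs) := by
      intro i j hij
      apply hC.inj
      apply fW_injective α hα
      rw [fW_simple α hα e cs hcs, fW_simple α hα e cs hcs, hij]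
    refine character_map S (fun k => α k) θ (sigma α hα e cs hcs) (Finite.injective_iff_surjective.1 hσinj)
      ?_ ?_ x
    · intro k y
      induction y using QuotientGroup.induction_on with
      | _ a =>
      change θ₀ (k • QuotientGroup.mk a) = α k • θ₀ (QuotientGroup.mk a)
      rw [OfBN.smul_mk, hθ₀, hθ₀, OfBN.smul_mk, map_mul]
    · intro i y z
      have hδ : ∀ y z, Δ.δ (θ₀ y) (θ₀ z) = fW P α (Δ.δ y z) := by
        intro y z
        induction y using QuotientGroup.induction_on with
        | _ a =>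
        induction z using QuotientGroup.induction_on with
        | _ b =>
        rw [hθ₀, hθ₀, hΔ, bldg_δ_mk, bldg_δ_mk, fW_wt α hα]
        congr 1
        rw [map_mul, map_inv]
      rw [Δ.mem_Pan, Δ.mem_Pan]
      change θ₀ z = θ₀ y ∨ Δ.δ (θ₀ y) (θ₀ z) = _ ↔ _
      rw [hδ, ← fW_simple α hα e cs hcs, hbij.1.eq_iff, (fW_injective α hα).eq_iff]
  · -- no fixed vectors of the minimal parabolic subgroups
    intro i
    have h4 := mult_eq_finrank (PJ P e {i}) (rep (G := K) S.iso)
    rw [h4, Nat.cast_eq_zero, Submodule.finrank_eq_zero, eq_bot_iff]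
    intro f hf
    rw [Submodule.mem_bot]
    have hinv : ∀ k ∈ PJ P e {i}, rep (G := K) S.iso k f = f := fun k hk => hf ⟨k, hk⟩
    apply eq_zero_of_inv S ht (c := c0)
    · intro u hu
      rw [hU] at hu
      exact hinv u (B_le_PJ P e {i} (hs.le hu))
    · have h5 : ∀ y ∈ Δ.Pan i c0, (f : K ⧸ P.B → ℂ) y = (f : K ⧸ P.B → ℂ) c0 := by
        intro y hy
        induction y using QuotientGroup.induction_on with
        | _ a =>
        have ha : a ∈ PJ P e {i} := by
          rw [mem_PJ P e cs hcs]
          rcases Δ.mem_Pan.1 hy with h | h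
          · rw [hc0, OfBN.mk_eq, mul_one] at h
            have h6 : wt P a = 1 := by
              have h7 : wt P (1 * a) = wt P 1 := wt_mul_right P 1 (by simpa using inv_mem h)
              rw [one_mul] at h7
              rw [h7]
              exact wt_of_mem P (n := 1) (LieExceptional.BNPairCore.self_mem_C _)
            rw [h6]
            exact one_mem _
          · rw [hc0, hΔ, bldg_δ_mk, inv_one, one_mul] at h
            rw [h]
            exact Subgroup.subset_closure ⟨i, rfl, rfl⟩
        have h6 := congrArg (fun z : St Δ => (z : K ⧸ P.B → ℂ) (QuotientGroup.mk a)) (hinv a ha)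
        simp only [rep_apply] at h6
        rw [← h6]
        rw [OfBN.smul_mk, inv_mul_cancel]
      have h6 := f.2 i c0
      unfold psum at h6
      have h7 : ∑ y, (if y ∈ Δ.Pan i c0 then (f : K ⧸ P.B → ℂ) y else 0) =
          (Finset.univ.filter fun y => y ∈ Δ.Pan i c0).card * (f : K ⧸ P.B → ℂ) c0 := by
        rw [← Finset.sum_filter, Finset.sum_congr rfl fun y hy => h5 y (Finset.mem_filter.1 hy).2,
          Finset.sum_const, nsmul_eq_mul]
      rw [h7] at h6
      refine (mul_eq_zero.1 h6).resolve_left (Nat.cast_ne_zero.2 ?_)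
      apply Finset.card_ne_zero_of_mem (a := c0)
      rw [Finset.mem_filter]
      exact ⟨Finset.mem_univ _, Δ.mem_Pan.2 (Or.inl rfl)⟩

end BN

end Cfsg.Agent.H601.OddDeg.SteinbergInv
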