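import Cfsg.Agent.H601.OddDeg.Parity
import Cfsg.Agent.H601.OddDeg.St
import Cfsg.Agent.H612.BNAut
import Cfsg.Agent.Tits.ExtAux

/-!
# Groups with a split (B,N)-pair of odd characteristic

* `three_of_split` : three odd degree characters from a set of nodes `J`, invariant under all symmetries of the diagram
  (with labels), with `|W : W_J|` even.
-/

set_option autoImplicit false
set_option linter.unusedSectionVars false

namespace Cfsg.Agent.H601.OddDeg.BN

open Cfsg Cfsg.Agent.Tits.Core Cfsg.Agent.FixBN Cfsg.Agent.LieExceptional.BNPairCore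
open Cfsg.Agent.Tits.OfBN Cfsg.Agent.FixBN.OfBN Cfsg.Agent.FixBN.TwOfBN Cfsg.Agent.H612.BNCosets
open Cfsg.Agent.H612.BNAut Cfsg.Agent.Tits.OppRes
open Cfsg.Agent.Characters.Core

section

variable {K : Type*} [Group K] {P : Cfsg.BNPair K} {I : Type*} {M : CoxeterMatrix I} {e : I ≃ P.S}

/-- An automorphism preserving `B` and all minimal parabolic subgroups preserves the double cosets of `B`. -/
theorem wt_fix [hN : ((P.B ⊓ P.N).subgroupOf P.N).Normal] (cs : CoxeterSystem M (WP P))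
    (hcs : ∀ i, cs.simple i = QuotientGroup.mk (⟨(e i : K), P.subset (e i).2⟩ : P.N))
    (hinj : Function.Injective cs.simple) (β : K ≃* K) (hβ : ∀ b, β b ∈ P.B ↔ b ∈ P.B)
    (h : ∀ i, (PJ P e {i}).map β.toMonoidHom = PJ P e {i}) (x : K) : wt P (β x) = wt P x := by
  have hsig : ∀ i, sigma β hβ e cs hcs i = i := by
    intro i
    have h1 : ((e i : P.S) : K) ∈ PJ P e {i} :=
      (mem_PJ P e cs hcs).2 (by rw [wt_e e cs hcs]; exact Subgroup.subset_closure ⟨i, rfl, rfl⟩)
    have h2 : β (e i : K) ∈ PJ P e {i} := by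
      rw [← h i]
      exact ⟨_, h1, rfl⟩
    have h3 := (mem_PJ P e cs hcs).1 h2
    rw [sigma_spec β hβ e cs hcs] at h3
    exact Set.mem_singleton_iff.1 (Cfsg.Agent.Tits.Ext.mem_of_simple_mem_WJ hinj h3)
  have hone : ∀ w : WP P, fW P β w = w := by
    intro w
    obtain ⟨ω, rfl⟩ := cs.wordProd_surjective w
    induction ω using List.reverseRecOn with
    | nil => rw [cs.wordProd_nil, fW_one β hβ]
    | append_singleton ω i ih =>
      rw [cs.wordProd_append, cs.wordProd_singleton, fW_mul β hβ e cs hcs, ih, fW_simple β hβ e cs hcs, hsig]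
  rw [← fW_wt β hβ, hone]

end

section

universe u

variable {K : Type u} [Group K] [Fintype K] {P : Cfsg.BNPair K} {p : ℕ} {U : Subgroup K}

/-- **A character from a set of nodes.** -/
theorem exists_inv_of_split (hs : Split P p U) (hp : p.Prime) (hp2 : p ≠ 2) {I : Type*} {M : CoxeterMatrix I}
    {e : I ≃ P.S} (hM : BNType P M e) (J : Set I)
    (hJ : ∀ σ : Equiv.Perm I, (∀ i j, M (σ i) (σ j) = M i j) →
      (∀ i, Nat.card (PJ P e {σ i}) = Nat.card (PJ P e {i})) → σ '' J = J ∧ ∃ k : ℕ, σ ^ 2 ^ k = 1)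
    (hidx : ∀ {W : Type u} [Group W] [Finite W] (cs : CoxeterSystem M W), 2 ∣ (WJ cs J).index) :
    ∃ χ : K → ℂ, Inv χ ∧ χ ≠ 1 ∧ mult (PJ P e J) χ ≠ 0 := by
  have : Fact p.Prime := ⟨hp⟩
  obtain ⟨hN, cs, hcs⟩ := hM
  have hI : Finite I := finite_I e
  have hC : Cox cs := inferInstance
  have hpar : 2 ∣ (PJ P e J).index := by
    have h1 := index_parity e hs cs hcs hp hp2 J
    exact (Nat.modEq_zero_iff_dvd.1 (h1.trans (Nat.modEq_zero_iff_dvd.2 (hidx cs))))
  refine exists_inv_of_parity P.B (PJ P e J) (B_le_PJ P e J) hpar fun τ => ?_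
  obtain ⟨g, hg⟩ := exists_conj hs τ
  let α : K ≃* K := τ.trans (MulAut.conj g⁻¹)
  have hα' : ∀ b, α b = g⁻¹ * τ b * g := by
    intro b
    change (MulAut.conj g⁻¹) (τ b) = _
    simp
  have hα : ∀ b, α b ∈ P.B ↔ b ∈ P.B := fun b => by rw [hα']; exact hg b
  have hmap : ∀ β : K ≃* K, (∀ b, β b ∈ P.B ↔ b ∈ P.B) → P.B.map β.toMonoidHom = P.B := by
    intro β hβ
    ext x
    constructor
    · rintro ⟨b, hb, rfl⟩
      exact (hβ b).2 hb
    · intro hx
      exact ⟨β.symm x, (hβ _).1 (by rwa [β.apply_symm_apply]), β.apply_symm_apply x⟩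
  obtain ⟨σ, hσ⟩ := exists_perm P e α (hmap α hα)
  obtain ⟨hσJ, k, hk⟩ := hJ σ (label_eq P e cs hcs α (hmap α hα) σ hσ) (fun i => by
    have h1 := hσ {i}
    rw [Set.image_singleton] at h1
    rw [← h1]
    exact Nat.card_congr ((PJ P e {i}).equivMapOfInjective α.toMonoidHom α.injective).toEquiv.symm)
  refine ⟨α, g, hα', ?_, k, ?_⟩
  · intro x
    have h1 := hσ J
    rw [hσJ] at h1
    constructor
    · intro hx
      rw [← h1] at hx
      obtain ⟨y, hy, hyx⟩ := hx
      rwa [← α.injective hyx]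
    · intro hx
      rw [← h1]
      exact ⟨x, hx, rfl⟩
  · -- the power of `α` preserves the double cosets
    have hpow : ∀ (n : ℕ) (i : I), (PJ P e {i}).map ((α ^ n : MulAut K) : K ≃* K).toMonoidHom = PJ P e {(σ ^ n) i} := by
      intro n
      induction n with
      | zero =>
        intro i
        exact Subgroup.map_id _
      | succ n ih =>
        intro i
        have h1 : ((α ^ (n + 1) : MulAut K) : K ≃* K).toMonoidHom =
            ((α ^ n : MulAut K) : K ≃* K).toMonoidHom.comp α.toMonoidHom := by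
          ext x
          rw [pow_succ]
          rfl
        rw [h1, ← Subgroup.map_map, hσ, Set.image_singleton, ih, pow_succ]
        rfl
    have hB : ∀ (n : ℕ) (b : K), (α ^ n : MulAut K) b ∈ P.B ↔ b ∈ P.B := by
      intro n
      induction n with
      | zero => intro b; exact Iff.rfl
      | succ n ih =>
        intro b
        rw [pow_succ]
        change (α ^ n : MulAut K) (α b) ∈ P.B ↔ _
        rw [ih, hα]
    intro x
    have h1 := wt_fix cs hcs hC.inj ((α ^ 2 ^ k : MulAut K) : K ≃* K) (hB _) (fun i => by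
      rw [hpow, hk]
      rfl) x
    exact (TwOfBN.wt_eq_wt_iff).1 h1.symm

/-- **Three odd degree characters of a group with a split (B,N)-pair of odd characteristic.** -/
theorem three_of_split (hs : Split P p U) (hp : p.Prime) (hp2 : p ≠ 2) {I : Type*} {M : CoxeterMatrix I}
    {e : I ≃ P.S} (hM : BNType P M e) (J : Set I) (hJne : J.Nonempty)
    (hJ : ∀ σ : Equiv.Perm I, (∀ i j, M (σ i) (σ j) = M i j) →
      (∀ i, Nat.card (PJ P e {σ i}) = Nat.card (PJ P e {i})) → σ '' J = J ∧ ∃ k : ℕ, σ ^ 2 ^ k = 1)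
    (hidx : ∀ {W : Type u} [Group W] [Finite W] (cs : CoxeterSystem M W), 2 ∣ (WJ cs J).index) : ThreeInv K := by
  obtain ⟨χ, hχ, hχ1, hχJ⟩ := exists_inv_of_split hs hp hp2 hM J hJ hidx
  obtain ⟨ψ, hψ, -, hψi⟩ := SteinbergInv.inv_of_split hs hp hp2 hM
  obtain ⟨i, hi⟩ := hJne
  have hle : PJ P e {i} ≤ PJ P e J := (PJ_le_iff P e).2 (Set.singleton_subset_iff.2 hi)
  refine ⟨1, χ, ψ, ?_, hχ, hψ, hχ1.symm, ?_, ?_⟩
  · refine ⟨isIrr_one, fun x => by simp, ?_, fun φ x => rfl⟩
    rw [charDegree]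
    simp
  · rintro rfl
    have h1 := hψi i
    rw [mult_one] at h1
    exact one_ne_zero h1
  · rintro rfl
    exact mult_ne_zero_of_le hle (isIrr_isCharacter hχ.1) hχJ (hψi i)

end

end Cfsg.Agent.H601.OddDeg.BN
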