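import Cfsg.Agent.H601.OddDeg.LieOdd
import Cfsg.Agent.H601.OddDeg.Block
import Cfsg.Agent.H742.TwoC
import Cfsg.Agent.H989.TwoCSpor
import Cfsg.Agent.OddHalf.Known

/-!
# Odd degree characters of the known simple groups
-/

set_option autoImplicit false
set_option linter.unusedSectionVars false

namespace Cfsg.Agent.H601.OddDeg.Fin

open Cfsg

universe u

/-- **The dichotomy for the known simple groups.** -/
theorem known {S : Type u} [Group S] [Finite S] [IsSimpleGroup S] (hpsu : LieOdd.PSU3) (hna : ¬ IsMulCommutative S)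
    (h : IsKnownSimple' S) : TwoC S ∨ ThreeInv S := by
  rcases OddHalf.Known.classify hna h with ⟨n, hn, ⟨e⟩⟩ | ⟨p, hp, hp2, h⟩ | (h | h) | h
  · exact Or.inl ((H742.TwoC.twoC_alt hn).congr e.symm)
  · exact LieOdd.lie_odd hpsu hp hp2 h
  · exact Or.inl (H742.TwoC.twoC_charTwo h)
  · exact Or.inl (H989.TwoCSpor.twoC_tits h)
  · exact Or.inl (H989.TwoCSpor.twoC_spor h)

end Cfsg.Agent.H601.OddDeg.Fin
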