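import Cfsg.Agent.Mrg.Omega.ML.Ex.Typ.List

/-!
# Rank two root group data with two different orders of root groups (S4948, helper601)
-/

set_option autoImplicit false
set_option linter.unusedSectionVars false

namespace Cfsg.Agent.H601.OddDeg

open Cfsg
open CoxeterSystem Cfsg.Agent.ChevalleyStructure.CoxeterGeom Cfsg.Agent.Tits.Roots
  Cfsg.Agent.Nodes.Comb Cfsg.Agent.Nodes.BNOf Cfsg.Agent.Omega.ML.Ex.Typ

/-- `G` is generated by a root group datum of characteristic `p` and rank two type `M` whose simple root groups have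
different orders. -/
def LabT (p : ℕ) (M : CoxeterMatrix (Fin 2)) (G : Type*) [Group G] : Prop :=
  ∃ (A : Fin 2 → Fin 2 → ℤ) (h : IsCartan M A) (T : Subgroup G) (n : Fin 2 → G) (X : (Fin 2 → ℤ) → Subgroup G),
    Finite M.Group ∧ RGD M.toCoxeterSystem h p T n X ∧ Nodes.RGDLib.G1 M.toCoxeterSystem h X = ⊤ ∧
      Nat.card (X (sr 0)) ≠ Nat.card (X (sr 1))

theorem LabT.of_equiv {p : ℕ} {M : CoxeterMatrix (Fin 2)} {G H : Type*} [Group G] [Group H]
    (e : G ≃* H) (hG : LabT p M G) : LabT p M H := by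
  obtain ⟨A, h, T, n, X, hW, R, hX, hr⟩ := hG
  refine ⟨A, h, T.map e.toMonoidHom, fun i => e (n i), fun x => (X x).map e.toMonoidHom, hW,
    Nodes.RGDLib.rgd_map_of_injective R e.toMonoidHom e.injective, ?_, ?_⟩
  · have h1 : (Nodes.RGDLib.G1 M.toCoxeterSystem h X).map e.toMonoidHom =
        Nodes.RGDLib.G1 M.toCoxeterSystem h (fun x => (X x).map e.toMonoidHom) := by
      unfold Nodes.RGDLib.G1 RGD.Sup
      rw [Subgroup.map_iSup]
    rw [← h1, hX, Subgroup.map_top_of_surjective _ e.surjective]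
  · have h1 : ∀ x, Nat.card ((X x).map e.toMonoidHom) = Nat.card (X x) := fun x =>
      Nat.card_congr ((X x).equivMapOfInjective e.toMonoidHom e.injective).toEquiv.symm
    change Nat.card ((X (sr 0)).map e.toMonoidHom) ≠ Nat.card ((X (sr 1)).map e.toMonoidHom)
    rw [h1, h1]
    exact hr

end Cfsg.Agent.H601.OddDeg
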