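import Cfsg.Agent.H601.OddDeg.BN
import Cfsg.Agent.H601.OddDeg.Lab
import Cfsg.Agent.Nodes.Unique
import Cfsg.Agent.H612.Sym
import Cfsg.Agent.H601.OddDeg.Idx

/-!
# Rank two groups with two different orders of root groups
-/

set_option autoImplicit false
set_option linter.unusedSectionVars false

namespace Cfsg.Agent.H601.OddDeg.LabRow

open Cfsg
open CoxeterSystem Cfsg.Agent.ChevalleyStructure.CoxeterGeom Cfsg.Agent.Tits.Roots Cfsg.Agent.Tits.Core
  Cfsg.Agent.Tits.RootComb Cfsg.Agent.Nodes.Comb Cfsg.Agent.Nodes.Reps Cfsg.Agent.Nodes.BNOf Cfsg.Agent.FixBN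
  Cfsg.Agent.H612.BNCosets Cfsg.Agent.Nodes.BNOf.RGD

section

variable {I W Y : Type*} [Fintype I] [DecidableEq I] [Group W] [Group Y] {M : CoxeterMatrix I}
  {cs : CoxeterSystem M W} {A : I → I → ℤ} {h : IsCartan M A} {p : ℕ} {T : Subgroup Y} {n : I → Y}
  {X : (I → ℤ) → Subgroup Y}

/-- conjugation by `n i` -/
theorem inv_mem_B (R : RGD cs h p T n X) (i : I) {v t : Y} (hv : v ∈ Sup X (PosNe cs h i)) (ht : t ∈ T) :
    (n i)⁻¹ * (v * t) * n i ∈ RGD.B cs h T X := by
  have h1 : (n i)⁻¹ * v * n i ∈ Sup X (PosNe cs h i) := by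
    have h2 : v ∈ cj (n i) (Sup X (PosNe cs h i)) := by rw [R.cj_n_V i]; exact hv
    obtain ⟨y, hy, rfl⟩ := h2
    have h3 : (n i)⁻¹ * (MulAut.conj (n i)).toMonoidHom y * n i = y := by
      change (n i)⁻¹ * (n i * y * (n i)⁻¹) * n i = y
      group
    rw [h3]
    exact hy
  have h2 : (n i)⁻¹ * t * n i ∈ T := by
    have h3 := (Subgroup.mem_normalizer_iff.1 (inv_mem (R.nsys.norm i))) t
    rw [inv_inv] at h3
    exact h3.1 ht
  have h3 : (n i)⁻¹ * (v * t) * n i = ((n i)⁻¹ * v * n i) * ((n i)⁻¹ * t * n i) := by group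
  rw [h3]
  exact mul_mem (U_le_B (Sup_mono (X := X) (S := PosNe cs h i) (S' := Pos cs h) (fun x hx => ⟨hx.1, hx.2.1⟩) h1))
    (T_le_B h2)

/-- The panels. -/
theorem card_panel [Finite W] (R : RGD cs h p T n X) (hgen : RGD.B cs h T X ⊔ NN cs R.nsys = ⊤) (i : I)
    [Finite Y] : Nat.card ((R.bnPair hgen).parabolic {n i}) =
      (1 + Nat.card (X (sr i))) * Nat.card (RGD.B cs h T X) := by
  set P := R.bnPair hgen with hP
  have hS : n i ∈ P.S := ⟨i, rfl⟩
  have hB : P.B = RGD.B cs h T X := rfl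
  have hle : P.B ≤ P.parabolic {n i} := le_sup_left
  have hni : n i ∈ P.parabolic {n i} := Schreier.BNSch.mem_parabolic_self P _
  have hXB : X (sr i) ≤ P.B := X_le_B (isRoot_sr cs h i) (sr_nonneg i)
  have hnB : n i ∉ P.B := Schreier.BNSch.not_mem_B P hS
  symm
  have h0 : (1 + Nat.card (X (sr i))) * Nat.card (RGD.B cs h T X) =
      Nat.card ((Unit ⊕ X (sr i)) × RGD.B cs h T X) := by
    rw [Nat.card_prod, Nat.card_sum, Nat.card_unique (α := Unit)]
  rw [h0]
  let f : (Unit ⊕ X (sr i)) × RGD.B cs h T X → P.parabolic {n i} := fun x =>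
    Sum.elim (fun _ => ⟨x.2, hle x.2.2⟩)
      (fun u : X (sr i) => ⟨(u : Y) * n i * x.2, mul_mem (mul_mem (hle (hXB u.2)) hni) (hle x.2.2)⟩) x.1
  refine Nat.card_congr (Equiv.ofBijective f ⟨?_, ?_⟩)
  · rintro ⟨a, b, hb⟩ ⟨a', b', hb'⟩ hab
    rcases a with ⟨⟩ | ⟨u, hu⟩ <;> rcases a' with ⟨⟩ | ⟨u', hu'⟩
    · have h1 : b = b' := congrArg Subtype.val hab
      subst h1
      rfl
    · exfalso
      have h1 : b = u' * n i * b' := congrArg Subtype.val hab
      apply hnB
      have h2 : n i = u'⁻¹ * b * b'⁻¹ := by rw [h1]; group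
      rw [h2]
      exact mul_mem (mul_mem (inv_mem (hXB hu')) hb) (inv_mem hb')
    · exfalso
      have h1 : u * n i * b = b' := congrArg Subtype.val hab
      apply hnB
      have h2 : n i = u⁻¹ * b' * b⁻¹ := by rw [← h1]; group
      rw [h2]
      exact mul_mem (mul_mem (inv_mem (hXB hu)) hb') (inv_mem hb)
    · have h1 : u * n i * b = u' * n i * b' := congrArg Subtype.val hab
      have h2 : (n i)⁻¹ * (u'⁻¹ * u) * n i = b' * b⁻¹ := by
        have : u = u' * n i * b' * b⁻¹ * (n i)⁻¹ := by rw [← h1]; group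
        rw [this]; group
      have h3 : (n i)⁻¹ * (u'⁻¹ * u) * n i ∈ X (-sr i) := by
        have h4 := R.conj_mem' (rp_simple cs R.nsys i) (isRoot_sr cs h i)
          (show u'⁻¹ * u ∈ X (sr i) from mul_mem (inv_mem hu') hu)
        rwa [cs.inv_simple, rep_simple_sr] at h4
      have h4 : (n i)⁻¹ * (u'⁻¹ * u) * n i = 1 := by
        have h5 : (n i)⁻¹ * (u'⁻¹ * u) * n i ∈ X (-sr i) ⊓ RGD.B cs h T X :=
          Subgroup.mem_inf.2 ⟨h3, by rw [h2]; exact mul_mem hb' (inv_mem hb)⟩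
        rwa [Nodes.Unique.neg_inf_B R i, Subgroup.mem_bot] at h5
      have h5 : u' = u := by
        have : u'⁻¹ * u = 1 := by
          have h6 : u'⁻¹ * u = n i * ((n i)⁻¹ * (u'⁻¹ * u) * n i) * (n i)⁻¹ := by group
          rw [h6, h4]; group
        exact inv_mul_eq_one.1 this
      subst h5
      have h6 : b = b' := mul_left_cancel h1
      subst h6
      rfl
  · rintro ⟨x, hx⟩
    rcases Schreier.BNSch.mem_parabolic_singleton P hS hx with h1 | ⟨b, hb, b', hb', rfl⟩
    · exact ⟨(Sum.inl (), ⟨x, h1⟩), rfl⟩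
    · -- `b = u * (v' * t)`
      obtain ⟨v, hv, u, hu, t, ht, rfl⟩ := R.mem_B' i hb
      have h2 : u⁻¹ * v * u ∈ Sup X (PosNe cs h i) := by
        have h4 : u⁻¹ ∈ X (sr i) := (X (sr i)).inv_mem hu
        have h3 := (Subgroup.mem_normalizer_iff.1 (R.X_le_normalizer_V i h4)) v
        rw [inv_inv] at h3
        exact h3.1 hv
      have h3 := inv_mem_B R i h2 ht
      refine ⟨(Sum.inr ⟨u, hu⟩, ⟨_, mul_mem h3 hb'⟩), ?_⟩
      apply Subtype.ext
      change u * n i * ((n i)⁻¹ * (u⁻¹ * v * u * t) * n i * b') = v * u * t * n i * b'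
      group

end

universe u

/-- **Rank two groups of odd characteristic whose simple root groups have different orders.** -/
theorem three_of_labT {S : Type u} [Group S] [Finite S] [IsSimpleGroup S] {p : ℕ} (hp : p.Prime) (hp2 : p ≠ 2)
    {M : CoxeterMatrix (Fin 2)} (hM : 2 ∣ M 0 1) (hS : LabT p M S) : ThreeInv S := by
  have := Fintype.ofFinite S
  obtain ⟨A, h, T, n, X, hW, R, hX, hne⟩ := hS
  have hgen : RGD.B M.toCoxeterSystem h T X ⊔ NN M.toCoxeterSystem R.nsys = ⊤ := by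
    rw [eq_top_iff, ← hX]
    exact Nodes.RGDLib.rgd_G1_le R
  have hSne : (R.bnPair hgen).S.Nonempty := ⟨n ⟨0, by norm_num⟩, _, rfl⟩
  have hsplit := SplitRGD.split_of_rgd hp R hgen
    (Cfsg.Agent.Tits.OfBN.normalCore_eq_bot (R.bnPair hgen) hSne)
  have hPJ : ∀ i, Nat.card (PJ (R.bnPair hgen) (Equiv.ofInjective n R.n_injective) {i}) =
      (1 + Nat.card (X (sr i))) * Nat.card (RGD.B M.toCoxeterSystem h T X) := by
    intro i
    rw [← card_panel R hgen i]
    unfold PJ
    have h1 : gens (R.bnPair hgen) (Equiv.ofInjective n R.n_injective) {i} = {n i} := by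
      unfold gens
      rw [Set.image_singleton]
      rfl
    rw [h1]
  refine BN.three_of_split hsplit hp hp2 (Omega.ML.Ex.Typ.bnType R hgen) {0} ⟨0, rfl⟩ ?_ ?_
  · intro σ hσ hlab
    have h0 : σ 0 = 0 := by
      by_contra hcon
      have h1 : σ 0 = 1 := by omega
      have h2 := hlab 0
      rw [h1, hPJ, hPJ] at h2
      have h3 : 0 < Nat.card (RGD.B M.toCoxeterSystem h T X) := Nat.card_pos
      have h4 := Nat.eq_of_mul_eq_mul_right h3 h2
      apply hne
      omega
    refine ⟨by rw [Set.image_singleton, h0], 0, ?_⟩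
    rw [pow_zero, pow_one]
    apply Equiv.ext
    intro i
    have h1 : σ 1 ≠ 0 := fun h => by
      have := σ.injective (h.trans h0.symm)
      simp at this
    have h2 : i = 0 ∨ i = 1 := by omega
    rcases h2 with rfl | rfl
    · exact h0
    · show σ 1 = 1
      omega
  · intro W _ _ cs
    exact Idx.index_single cs 0 (j := 0) (k := 1) (by decide) hM

end Cfsg.Agent.H601.OddDeg.LabRow
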