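import Cfsg.Agent.H601.OddDeg.Small
import Cfsg.Agent.H493.OddDeg.Psp
import Cfsg.Agent.H493.OddDeg.Orth
import Cfsg.Agent.H493.OddDeg.G2Ree
import Cfsg.Agent.H809.LabPSU
import Cfsg.Agent.H809.LabTwD4

/-!
# Groups of Lie type of odd characteristic
-/

set_option autoImplicit false
set_option linter.unusedSectionVars false

namespace Cfsg.Agent.H601.OddDeg.LieOdd

open Cfsg Cfsg.Agent.Omega.ML.Ex.Typ Cfsg.Agent.H601.OddDeg.Rows Cfsg.Agent.H601.OddDeg.Small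
open Cfsg.Agent.Nodes.RGDChev

universe u

variable {S : Type u} [Group S] [Finite S] [IsSimpleGroup S]

omit [Finite S] in
theorem simple_of_equiv {K : Type*} [Group K] (e : S ≃* K) : IsSimpleGroup K := by
  have : Nontrivial K := e.symm.toEquiv.nontrivial
  exact IsSimpleGroup.isSimpleGroup_of_surjective e.toMonoidHom e.surjective

/-- the missing input -/
def PSU3 : Prop := ∀ {F : Type} [Field F] [Fintype F] {q : ℕ}, Fintype.card F = q ^ 2 → (2 : F) ≠ 0 →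
  ∃ χ : PSU 3 F q → ℂ, Inv χ ∧ χ 1 ≠ 1 ∧ χ 1 ≠ (q : ℂ) ^ 3

theorem lie_odd (hpsu : PSU3) {p : ℕ} (hp : p.Prime) (hp2 : p ≠ 2) (h : IsLieTypeChar p S) : TwoC S ∨ ThreeInv S := by
  have : Fact p.Prime := ⟨hp⟩
  rcases h with h | h | h | h | h | h | h | h | ⟨h, -⟩ | ⟨h, -⟩ | ⟨-, h⟩
  · obtain ⟨F, _, _, _, n, hn, -, ⟨e⟩⟩ := h
    have h2 : (2 : F) ≠ 0 := two_ne hp2
    rcases Nat.lt_or_ge n 4 with h4 | h4
    · have h5 : n = 2 ∨ n = 3 := by omega
      rcases h5 with rfl | rfl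
      · exact Or.inl ((H493.OddDeg.twoC_psl2 h2).congr e.symm)
      · have := simple_of_equiv e
        exact Or.inr ((three_psl3 (F := F) hp hp2).congr e.symm)
    · obtain ⟨m, rfl⟩ : ∃ m, n = m + 1 := ⟨n - 1, by omega⟩
      exact Or.inr (three_A hp hp2 (by omega) ((typ_PSL m).of_equiv e.symm))
  · obtain ⟨F, _, _, _, m, hm, -, ⟨e⟩⟩ := h
    exact Or.inl ((H493.OddDeg.twoC_psp (two_ne (F := F) hp2) (by omega)).congr e.symm)
  · obtain ⟨F, _, _, _, n, q, hF, hn, -, ⟨e⟩⟩ := h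
    have h2 : (2 : F) ≠ 0 := two_ne hp2
    rcases Nat.lt_or_ge n 6 with h6 | h6
    · have h5 : n = 3 ∨ n = 4 ∨ n = 5 := by omega
      rcases h5 with rfl | rfl | rfl
      · have := simple_of_equiv e
        exact Or.inr ((three_psu3_of hp hp2 hF (hpsu hF h2)).congr e.symm)
      · exact Or.inr (LabRow.three_of_labT hp hp2 (by decide) ((H809.LabPSU.lab_psu4 hF hp2).of_equiv e.symm))
      · exact Or.inr (LabRow.three_of_labT hp hp2 (by decide) ((H809.LabPSU.lab_psu5 hF hp2).of_equiv e.symm))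
    · obtain ⟨m, hm, hR⟩ := typ_PSU (p := p) hF hn
      exact Or.inr (three_B hp hp2 (by omega) (hR.of_equiv e.symm))
  · exact Or.inl (H493.OddDeg.Orth.twoC_orth hp hp2 (Or.inl h))
  · exact Or.inl (H493.OddDeg.Orth.twoC_orth hp hp2 (Or.inr (Or.inl h)))
  · exact Or.inl (H493.OddDeg.Orth.twoC_orth hp hp2 (Or.inr (Or.inr h)))
  · obtain ⟨F, _, _, _, ⟨-, ⟨e⟩⟩ | ⟨⟨e⟩⟩ | ⟨⟨e⟩⟩ | ⟨⟨e⟩⟩ | ⟨⟨e⟩⟩⟩ := h
    · exact Or.inl ((H493.OddDeg.G2Ree.twoC_g2 (two_ne (F := F) hp2)).congr e.symm)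
    · exact Or.inr (three_F4 hp hp2 ((typ_group (by simp [IsType, typeList]) F p).of_equiv e.symm))
    · exact Or.inr (three_E6 hp hp2 ((typ_group (by simp [IsType, typeList]) F p).of_equiv e.symm))
    · exact Or.inr (three_E7 hp hp2 ((typ_group (by simp [IsType, typeList]) F p).of_equiv e.symm))
    · exact Or.inr (three_E8 hp hp2 ((typ_group (by simp [IsType, typeList]) F p).of_equiv e.symm))
  · obtain ⟨K, _, _, _, q, hq, ⟨hK, ⟨e⟩⟩ | ⟨hK, ⟨e⟩⟩⟩ := h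
    · exact Or.inr (three_F4 hp hp2 ((typ_twE6 hq hK p).of_equiv e.symm))
    · exact Or.inr (LabRow.three_of_labT hp hp2 (by decide) ((H809.LabTwD4.lab_twD4 hq hK p).of_equiv e.symm))
  · exact absurd h hp2
  · exact absurd h hp2
  · exact Or.inl (H493.OddDeg.G2Ree.twoC_ree h)

end Cfsg.Agent.H601.OddDeg.LieOdd
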