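import Cfsg.Agent.H601.OddDeg.Perm
import Mathlib.GroupTheory.Perm.Cycle.Type

/-!
# An invariant real character of odd degree from a permutation character of even degree

`exists_inv_of_parity` : `H` a subgroup of even index; every automorphism is, modulo an inner one, an automorphism
stabilizing `H` with a power of exponent `2^k` preserving all double cosets of `B ≤ H`. Then there is a character
`χ ≠ 1`, real-valued, of odd degree, invariant under all automorphisms, with `mult H χ ≠ 0`.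
-/

set_option autoImplicit false

namespace Cfsg.Agent.H601.OddDeg

open Cfsg Subgroup Cfsg.Agent.Characters.Core
open scoped ComplexConjugate Classical

variable {G : Type*} [Group G] [Fintype G]

omit [Fintype G] in
theorem class_comp_iter {τ α : G ≃* G} {g : G} (hα : ∀ x, α x = g⁻¹ * τ x * g) (n : ℕ) {χ : G → ℂ}
    (hχ : IsClassFunction G χ) (x : G) : χ ((τ ^ n : MulAut G) x) = χ ((α ^ n : MulAut G) x) := by
  induction n generalizing x with
  | zero => rfl
  | succ n ih =>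
    rw [pow_succ, pow_succ]
    change χ ((τ ^ n : MulAut G) (τ x)) = χ ((α ^ n : MulAut G) (α x))
    rw [← ih, hα]
    have h1 : (τ ^ n : MulAut G) (g⁻¹ * τ x * g) =
        ((τ ^ n : MulAut G) g⁻¹) * (τ ^ n : MulAut G) (τ x) * ((τ ^ n : MulAut G) g⁻¹)⁻¹ := by
      rw [map_mul, map_mul, ← map_inv, inv_inv]
    rw [h1, hχ]

/-- **The parity lemma.** -/
theorem exists_inv_of_parity (B H : Subgroup G) (hBH : B ≤ H) (hidx : 2 ∣ H.index)
    (haut : ∀ τ : G ≃* G, ∃ (α : G ≃* G) (g : G), (∀ x, α x = g⁻¹ * τ x * g) ∧ (∀ x, α x ∈ H ↔ x ∈ H) ∧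
      ∃ k : ℕ, ∀ x, ∃ b ∈ B, ∃ b' ∈ B, (α ^ 2 ^ k : MulAut G) x = b * x * b') :
    ∃ χ : G → ℂ, Inv χ ∧ χ ≠ 1 ∧ mult H χ ≠ 0 := by
  have hF2 : Fact (Nat.Prime 2) := ⟨Nat.prime_two⟩
  have hfin : Finite (IrrCharacter G) := finite_irr
  have := Fintype.ofFinite (IrrCharacter G)
  -- natural number data
  have hm : ∀ χ : IrrCharacter G, ∃ n : ℕ, mult H (χ : G → ℂ) = n := fun χ =>
    exists_mult_eq H (isIrr_isCharacter χ.2)
  have hd : ∀ χ : IrrCharacter G, ∃ n : ℕ, (χ : G → ℂ) 1 = n := fun χ => by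
    obtain ⟨n, -, hn⟩ := isIrr_apply_one χ.2
    exact ⟨n, hn⟩
  choose m hm using hm
  choose d hd using hd
  have hdeg : ∀ χ : IrrCharacter G, charDegree (χ : G → ℂ) = d χ := by
    intro χ
    rw [charDegree, hd]
    simp
  have hsum : ∑ χ : IrrCharacter G, m χ * d χ = H.index := by
    have h1 := sum_mult H
    have h2 : ∀ χ : IrrCharacter G, mult H (χ : G → ℂ) * (χ : G → ℂ) 1 = ((m χ * d χ : ℕ) : ℂ) := by
      intro χ
      rw [hm, hd]
      push_cast
      rfl
    rw [Finset.sum_congr rfl fun χ _ => h2 χ] at h1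
    exact_mod_cast h1
  -- the set of characters with odd contribution
  let Y := {χ : IrrCharacter G // Odd (m χ * d χ)}
  have hY : 2 ∣ Fintype.card Y := by
    rw [← hsum] at hidx
    rw [Fintype.card_subtype]
    have h1 : (∑ χ : IrrCharacter G, m χ * d χ) % 2 =
        (Finset.univ.filter fun χ : IrrCharacter G => Odd (m χ * d χ)).card % 2 := by
      rw [Finset.sum_nat_mod, Finset.card_filter]
      congr 1
      refine Finset.sum_congr rfl fun χ _ => ?_
      split_ifs with h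
      · exact Nat.odd_iff.1 h
      · exact Nat.even_iff.1 (Nat.not_odd_iff_even.1 h)
    omega
  -- complex conjugation
  have hconj : ∀ χ : IrrCharacter G, ∃ ψ : IrrCharacter G, (ψ : G → ℂ) = fun g => conj ((χ : G → ℂ) g) :=
    fun χ => ⟨⟨_, isIrr_conj χ.2⟩, rfl⟩
  have hmc : ∀ χ ψ : IrrCharacter G, ((ψ : G → ℂ) = fun g => conj ((χ : G → ℂ) g)) → m ψ = m χ ∧ d ψ = d χ := by
    intro χ ψ h
    constructor
    · have h1 : mult H (ψ : G → ℂ) = mult H (χ : G → ℂ) := by
        rw [h]; exact mult_conj H (isIrr_isCharacter χ.2)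
      rw [hm, hm] at h1
      exact_mod_cast h1
    · have h1 : (ψ : G → ℂ) 1 = conj ((χ : G → ℂ) 1) := by rw [h]
      rw [hd, hd] at h1
      simpa using h1
  let c : Y → Y := fun χ => ⟨⟨fun g => conj ((χ.1 : G → ℂ) g), isIrr_conj χ.1.2⟩, by
    obtain ⟨h1, h2⟩ := hmc χ.1 ⟨fun g => conj ((χ.1 : G → ℂ) g), isIrr_conj χ.1.2⟩ rfl
    rw [h1, h2]
    exact χ.2⟩
  have hcc : Function.Involutive c := by
    intro χ
    apply Subtype.ext
    apply Subtype.ext
    funext g
    exact Complex.conj_conj _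
  have hfix : Fintype.card Y ≡ Fintype.card (Function.fixedPoints c) [MOD 2] := by
    let c' : Function.End Y := c
    have hc' : c' ^ 2 ^ 1 = 1 := by
      rw [pow_one, pow_two]
      funext χ
      exact hcc χ
    have h1 := Equiv.Perm.card_fixedPoints_modEq (f := c') (p := 2) (n := 1) hc'
    convert h1
  -- the real characters other than `1`
  let Z := {χ : IrrCharacter G // (Odd (m χ * d χ) ∧ ∀ x, ((χ : G → ℂ) x).im = 0) ∧ (χ : G → ℂ) ≠ 1}
  have hone : mult H (1 : G → ℂ) = 1 := mult_one H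
  let o : IrrCharacter G := ⟨1, isIrr_one⟩
  have hmo : m o = 1 := by
    have := hm o
    rw [show mult H (o : G → ℂ) = 1 from hone] at this
    exact_mod_cast this.symm
  have hdo : d o = 1 := by
    have : ((1 : G → ℂ) 1 : ℂ) = d o := hd o
    rw [Pi.one_apply] at this
    exact_mod_cast this.symm
  have hZ : ¬ 2 ∣ Nat.card Z := by
    have h1 : 2 ∣ Fintype.card (Function.fixedPoints c) :=
      Nat.modEq_zero_iff_dvd.1 (hfix.symm.trans (Nat.modEq_zero_iff_dvd.2 hY))
    -- the fixed points are the real characters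
    have e1 : Fintype.card (Function.fixedPoints c) =
        (Finset.univ.filter fun χ : IrrCharacter G => Odd (m χ * d χ) ∧ ∀ x, ((χ : G → ℂ) x).im = 0).card := by
      rw [← Fintype.card_subtype]
      refine Fintype.card_congr ⟨fun χ => ⟨χ.1.1, χ.1.2, fun x => ?_⟩, fun χ => ⟨⟨χ.1, χ.2.1⟩, ?_⟩, fun _ => rfl,
        fun _ => rfl⟩
      · have h2 : c χ.1 = χ.1 := χ.2
        have h3 := congrFun (congrArg (fun y : Y => ((y.1 : IrrCharacter G) : G → ℂ)) h2) x
        exact Complex.conj_eq_iff_im.1 h3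
      · apply Subtype.ext
        apply Subtype.ext
        funext x
        exact Complex.conj_eq_iff_im.2 (χ.2.2 x)
    have e2 : Nat.card Z = ((Finset.univ.filter fun χ : IrrCharacter G => Odd (m χ * d χ) ∧
        ∀ x, ((χ : G → ℂ) x).im = 0).erase o).card := by
      rw [Nat.card_eq_fintype_card, Fintype.card_subtype]
      congr 1
      ext χ
      rw [Finset.mem_erase, Finset.mem_filter, Finset.mem_filter]
      constructor
      · rintro ⟨-, h2, h3⟩
        exact ⟨fun h => h3 (by rw [h]), Finset.mem_univ _, h2⟩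
      · rintro ⟨h1, -, h2⟩
        exact ⟨Finset.mem_univ _, h2, fun h => h1 (Subtype.ext h)⟩
    have hmem : o ∈ Finset.univ.filter fun χ : IrrCharacter G => Odd (m χ * d χ) ∧
        ∀ x, ((χ : G → ℂ) x).im = 0 := by
      rw [Finset.mem_filter]
      refine ⟨Finset.mem_univ _, ?_, fun x => ?_⟩
      · rw [hmo, hdo]
        exact odd_one
      · change ((1 : ℂ)).im = 0
        simp
    rw [e2, Finset.card_erase_of_mem hmem, ← e1]
    have h2 : 0 < Fintype.card (Function.fixedPoints c) := by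
      rw [e1]
      exact Finset.card_pos.2 ⟨o, hmem⟩
    omega
  -- invariance of the multiplicity
  have hcl : ∀ χ : IrrCharacter G, IsClassFunction G (χ : G → ℂ) := fun χ => isIrr_isClassFunction χ.2
  have hmt : ∀ (χ ψ : IrrCharacter G) (τ : G ≃* G), (∀ x, (ψ : G → ℂ) x = (χ : G → ℂ) (τ x)) →
      m ψ = m χ ∧ d ψ = d χ := by
    intro χ ψ τ h
    obtain ⟨α, g, hα, hH, -⟩ := haut τ
    constructor
    · have h1 : (ψ : G → ℂ) = fun x => (χ : G → ℂ) (α x) := by
        funext x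
        rw [h]
        have := class_comp_iter hα 1 (hcl χ) x
        rw [pow_one, pow_one] at this
        exact this
      have h2 : mult H (ψ : G → ℂ) = mult H (χ : G → ℂ) := by
        rw [h1]
        exact mult_comp H H _ α hH
      rw [hm, hm] at h2
      exact_mod_cast h2
    · have h1 := h 1
      rw [map_one, hd, hd] at h1
      exact_mod_cast h1
  -- the action of the automorphism group
  let act : MulAut G → Z → Z := fun τ χ => ⟨⟨fun x => (χ.1 : G → ℂ) ((τ⁻¹ : MulAut G) x),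
      isIrr_comp (τ⁻¹ : MulAut G).toMonoidHom (τ⁻¹ : MulAut G).surjective χ.1.2⟩, by
    obtain ⟨h1, h2⟩ := hmt χ.1 ⟨fun x => (χ.1 : G → ℂ) ((τ⁻¹ : MulAut G) x),
      isIrr_comp (τ⁻¹ : MulAut G).toMonoidHom (τ⁻¹ : MulAut G).surjective χ.1.2⟩ (τ⁻¹ : MulAut G) (fun _ => rfl)
    rw [h1, h2]
    refine ⟨⟨χ.2.1.1, fun x => χ.2.1.2 _⟩, fun h => χ.2.2 ?_⟩
    funext x
    have := congrFun h ((τ : MulAut G) x)
    simpa using this⟩
  let _ : MulAction (MulAut G) Z :=
    { smul := act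
      one_smul := fun χ => rfl
      mul_smul := fun τ σ χ => by
        apply Subtype.ext
        apply Subtype.ext
        funext x
        change (χ.1 : G → ℂ) (((τ * σ)⁻¹ : MulAut G) x) = (χ.1 : G → ℂ) ((σ⁻¹ : MulAut G) ((τ⁻¹ : MulAut G) x))
        rw [mul_inv_rev]
        rfl }
  have hact : ∀ (τ : MulAut G) (χ : Z) (x : G), ((τ • χ : Z).1 : G → ℂ) x = (χ.1 : G → ℂ) ((τ⁻¹ : MulAut G) x) :=
    fun _ _ _ => rfl
  -- the image is a 2-group
  have hP : IsPGroup 2 (MulAction.toPermHom (MulAut G) Z).range := by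
    rintro ⟨_, ⟨τ, rfl⟩⟩
    obtain ⟨α, g, hα, -, k, hk⟩ := haut τ⁻¹
    refine ⟨k, ?_⟩
    apply Subtype.ext
    rw [SubmonoidClass.coe_pow, ← map_pow]
    refine Equiv.ext fun χ => ?_
    change τ ^ 2 ^ k • χ = χ
    apply Subtype.ext
    apply Subtype.ext
    funext x
    rw [hact]
    have h1 : ((τ ^ 2 ^ k)⁻¹ : MulAut G) = (τ⁻¹) ^ 2 ^ k := (inv_pow τ _).symm
    rw [h1, class_comp_iter (τ := (τ⁻¹ : MulAut G)) hα (2 ^ k) (hcl χ.1) x]
    apply eq_of_fix B χ.1.2 _ (α ^ 2 ^ k : MulAut G) hk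
    rw [← mult_ne_zero_iff]
    apply mult_ne_zero_of_le hBH (isIrr_isCharacter χ.1.2)
    rw [hm]
    intro h0
    have h2 := χ.2.1.1
    have h3 : m χ.1 = 0 := by exact_mod_cast h0
    rw [h3, zero_mul] at h2
    exact absurd h2 (by decide)
  have hZfin : Finite Z := Subtype.finite
  obtain ⟨χ, hχ⟩ := hP.nonempty_fixed_point_of_prime_not_dvd_card Z hZ
  refine ⟨χ.1, ⟨χ.1.2, χ.2.1.2, ?_, ?_⟩, χ.2.2, ?_⟩
  · rw [hdeg, ← even_iff_two_dvd, Nat.not_even_iff_odd]
    exact (Nat.odd_mul.1 χ.2.1.1).2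
  · intro φ x
    have h1 := hχ ⟨_, ⟨(φ⁻¹ : MulAut G), rfl⟩⟩
    have h2 : (φ⁻¹ : MulAut G) • χ = χ := h1
    have h3 := congrFun (congrArg (fun z : Z => ((z.1 : IrrCharacter G) : G → ℂ)) h2) x
    simp only [hact, inv_inv] at h3
    exact h3
  · rw [hm]
    have h2 := (Nat.odd_mul.1 χ.2.1.1).1
    exact Nat.cast_ne_zero.2 fun h => by rw [h] at h2; exact absurd h2 (by decide)

end Cfsg.Agent.H601.OddDeg
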