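import Cfsg.Agent.H601.OddDeg.LabRow
import Cfsg.Agent.H612.ModA
import Cfsg.Agent.H612.ModB
import Cfsg.Agent.H681.GmnTypes

/-!
# Three odd degree characters for the groups of type `A_n`, `B_n` (`n ≥ 3`), `F_4`, `E_6`, `E_7`, `E_8`
-/

set_option autoImplicit false
set_option linter.unusedSectionVars false

namespace Cfsg.Agent.H601.OddDeg.Rows

open Cfsg Cfsg.Agent.Omega.ML.Ex.Typ Cfsg.Agent.Tits.Core
open Cfsg.Agent.LieRecognition.BNCox (cA)

universe u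

/-- the general row -/
theorem of_hasRGDT {S : Type u} [Group S] [Finite S] [IsSimpleGroup S] {p : ℕ} (hp : p.Prime) (hp2 : p ≠ 2) {l : ℕ}
    (hl : 0 < l) {M : CoxeterMatrix (Fin l)} (h : HasRGDT p M S) (J : Set (Fin l)) (hJne : J.Nonempty)
    (hJ : ∀ σ : Equiv.Perm (Fin l), (∀ i j, M (σ i) (σ j) = M i j) → σ '' J = J ∧ ∃ k : ℕ, σ ^ 2 ^ k = 1)
    (hidx : ∀ {W : Type u} [Group W] [Finite W] (cs : CoxeterSystem M W), 2 ∣ (WJ cs J).index) : ThreeInv S := by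
  have := Fintype.ofFinite S
  obtain ⟨P, U, e, hs, hM⟩ := h.hasSplitT hp hl
  exact BN.three_of_split hs hp hp2 hM J hJne (fun σ hσ _ => hJ σ hσ) hidx

/-- the adjacency of a path -/
def Adj {n : ℕ} (a b : Fin n) : Prop := (a : ℕ) + 1 = b ∨ (b : ℕ) + 1 = a

theorem path_one {n : ℕ} {σ : Equiv.Perm (Fin n)} (hσ : ∀ a b : Fin n, Adj a b → Adj (σ a) (σ b))
    (h0 : ∀ i : Fin n, (i : ℕ) = 0 → (σ i : ℕ) = 0) : σ = 1 := by
  have key : ∀ k (hk : k < n), (σ ⟨k, hk⟩ : ℕ) = k := by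
    intro k
    induction k using Nat.strong_induction_on with
    | _ k ih =>
      intro hk
      match k, ih, hk with
      | 0, _, hk => exact h0 _ rfl
      | 1, ih, hk =>
        have h1 := ih 0 (by omega) (by omega)
        have h2 := hσ ⟨0, by omega⟩ ⟨1, hk⟩ (Or.inl rfl)
        unfold Adj at h2
        rw [h1] at h2
        omega
      | k + 2, ih, hk =>
        have h1 := ih (k + 1) (by omega) (by omega)
        have h3 := ih k (by omega) (by omega)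
        have h2 := hσ ⟨k + 1, by omega⟩ ⟨k + 2, hk⟩ (Or.inl rfl)
        unfold Adj at h2
        rw [h1] at h2
        rcases h2 with h2 | h2
        · omega
        · exfalso
          have h4 : (σ ⟨k + 2, hk⟩ : ℕ) = σ ⟨k, by omega⟩ := by omega
          have h5 := congrArg Fin.val (σ.injective (Fin.ext h4))
          simp at h5
  ext i
  exact key i i.2

theorem sq_one {I : Type*} (σ : Equiv.Perm I) (ι : I → I) (hι : ∀ i, ι (ι i) = i)
    (h : ∀ i, σ i = i ∨ σ i = ι i) : σ ^ 2 ^ 1 = 1 := by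
  rw [pow_one]
  ext i
  rw [pow_two, Equiv.Perm.mul_apply, Equiv.Perm.one_apply]
  rcases h i with h1 | h1
  · rw [h1, h1]
  · rw [h1]
    rcases h (ι i) with h2 | h2
    · have h3 : σ i = σ (ι i) := by rw [h1, h2]
      have h4 := σ.injective h3
      rw [h2, ← h4]
    · rw [h2, hι]

theorem adj_A {n : ℕ} {a b : Fin n} : cA n a b = 3 ↔ Adj a b := by
  rw [LieRecognition.BNCox.cA_apply]
  unfold LieRecognition.CoxClass.mA Adj
  split_ifs <;> omega

theorem sq_A {n : ℕ} (hn : 3 ≤ n) (σ : Equiv.Perm (Fin n)) (hσ : ∀ i j, cA n (σ i) (σ j) = cA n i j) :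
    ∃ k : ℕ, σ ^ 2 ^ k = 1 := by
  have hadj : ∀ a b : Fin n, Adj a b → Adj (σ a) (σ b) := by
    intro a b hab
    rw [← adj_A, hσ, adj_A]
    exact hab
  have hend : ∀ i : Fin n, (i : ℕ) = 0 → (σ i : ℕ) = 0 ∨ (σ i : ℕ) = n - 1 := by
    intro i hi
    by_contra hcon
    have h1 : σ i ∈ {i : Fin n | ¬ ((i : ℕ) = 0 ∨ (i : ℕ) = n - 1)} := hcon
    rw [← H612.Sym.sym_A σ hσ] at h1
    obtain ⟨j, hj, hji⟩ := h1
    rw [σ.injective hji] at hj
    exact hj (Or.inl hi)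
  rcases hend ⟨0, by omega⟩ rfl with h1 | h1
  · refine ⟨0, ?_⟩
    rw [pow_zero, pow_one]
    refine path_one hadj fun i hi => ?_
    have : i = ⟨0, by omega⟩ := Fin.ext hi
    rw [this]
    exact h1
  · have h2 : Fin.revPerm * σ = 1 := by
      refine path_one (fun a b hab => ?_) fun i hi => ?_
      · have h3 := hadj a b hab
        have h4 := (σ a).2
        have h5 := (σ b).2
        change Adj (Fin.rev (σ a)) (Fin.rev (σ b))
        unfold Adj at h3 ⊢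
        rw [Fin.val_rev, Fin.val_rev]
        omega
      · have : i = ⟨0, by omega⟩ := Fin.ext hi
        rw [this]
        change (Fin.rev (σ ⟨0, _⟩) : ℕ) = 0
        rw [Fin.val_rev]
        omega
    refine ⟨1, sq_one σ Fin.rev Fin.rev_rev fun i => Or.inr ?_⟩
    have h3 := congrArg (fun f : Equiv.Perm (Fin n) => f i) h2
    change Fin.rev (σ i) = i at h3
    have h4 := congrArg Fin.rev h3
    rwa [Fin.rev_rev] at h4

section

variable {S : Type u} [Group S] [Finite S] [IsSimpleGroup S] {p : ℕ}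

theorem three_A (hp : p.Prime) (hp2 : p ≠ 2) {n : ℕ} (hn : 3 ≤ n) (h : HasRGDT p (cA n) S) : ThreeInv S := by
  refine of_hasRGDT hp hp2 (by omega) h {i | ¬ ((i : ℕ) = 0 ∨ (i : ℕ) = n - 1)} ⟨⟨1, by omega⟩, ?_⟩
    (fun σ hσ => ⟨H612.Sym.sym_A σ hσ, sq_A hn σ hσ⟩) ?_
  · simp
    omega
  · intro W _ _ cs
    have h1 := (H612.ModA.model (n := n) (by omega)).card_quotient cs (Nodes.RootsA.isCartan n) (by
      intro i
      rw [H612.ModA.l_apply hn]
      split_ifs <;> norm_num)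
    have h2 : {i : Fin n | H612.ModA.l n (by omega) i = 0} = {i : Fin n | ¬ ((i : ℕ) = 0 ∨ (i : ℕ) = n - 1)} := by
      ext i
      show H612.ModA.l n _ i = 0 ↔ _
      rw [H612.ModA.l_apply hn]
      by_cases h1 : (i : ℕ) = 0 ∨ (i : ℕ) = n - 1
      · rw [if_pos h1]
        exact ⟨fun h => absurd h (by norm_num), fun h => absurd h1 h⟩
      · rw [if_neg h1]
        exact ⟨fun _ => h1, fun _ => rfl⟩
    rw [← h2, h1]
    exact (H612.ModA.even_card n).two_dvd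

theorem three_B (hp : p.Prime) (hp2 : p ≠ 2) {n : ℕ} (hn : 3 ≤ n) (h : HasRGDT p (CoxeterMatrix.B n) S) :
    ThreeInv S := by
  refine of_hasRGDT hp hp2 (by omega) h {i | (i : ℕ) ≠ 0} ⟨⟨1, by omega⟩, ?_⟩
    (fun σ hσ => ⟨H612.Sym.sym_B hn σ hσ, 0, ?_⟩) ?_
  · simp
  · rw [pow_zero, pow_one]
    have hB : ∀ a b : Fin n, Adj a b ↔ (a : ℕ) ≠ b ∧ CoxeterMatrix.B n a b ≠ 2 := by
      intro a b
      rw [Ne, Ne, H612.Sym.B_eq_two]
      unfold Adj
      omega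
    refine path_one (fun a b hab => ?_) fun i hi => ?_
    · rw [hB] at hab ⊢
      refine ⟨fun h => hab.1 (congrArg Fin.val (σ.injective (Fin.ext h))), ?_⟩
      rw [hσ]
      exact hab.2
    · by_contra hcon
      have h1 : σ i ∈ {i : Fin n | (i : ℕ) ≠ 0} := hcon
      rw [← H612.Sym.sym_B hn σ hσ] at h1
      obtain ⟨j, hj, hji⟩ := h1
      rw [σ.injective hji] at hj
      exact hj hi
  · intro W _ _ cs
    have h1 := (H612.ModB.model (n := n) (by omega)).card_quotient cs (Nodes.TypeC.isCartan n) (by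
      intro i
      rw [H612.ModB.l_apply (by omega)]
      split_ifs <;> norm_num)
    have h2 : {i : Fin n | H612.ModB.l n (by omega) i = 0} = {i : Fin n | (i : ℕ) ≠ 0} := by
      ext i
      show H612.ModB.l n _ i = 0 ↔ (i : ℕ) ≠ 0
      rw [H612.ModB.l_apply (by omega)]
      split_ifs <;> simp_all
    rw [← h2, h1, Nat.card_prod, Nat.card_eq_fintype_card (α := Bool), Fintype.card_bool]
    exact ⟨_, mul_comm _ _⟩

theorem three_F4 (hp : p.Prime) (hp2 : p ≠ 2) (h : HasRGDT p CoxeterMatrix.F₄ S) : ThreeInv S := by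
  refine of_hasRGDT hp hp2 (by omega) h {0, 3} ⟨0, Or.inl rfl⟩ (fun σ hσ => ?_) ?_
  · have h1 : ∀ i, ![1, 2, 2, 1] (σ i) = ![1, 2, 2, 1] i :=
      H681.GmnTypes.inv_step hσ (g := fun _ => 1) (fun _ => rfl) (by decide)
    refine ⟨?_, 1, sq_one σ Fin.rev Fin.rev_rev ?_⟩
    · apply H612.Sym.image_eq
      have h2 : ∀ i ∈ ({0, 3} : Set (Fin 4)), ![1, 2, 2, 1] i = 1 := by
        rintro i (rfl | rfl) <;> rfl
      have h3 : ∀ a : Fin 4, ![1, 2, 2, 1] a = 1 → a = 0 ∨ a = 3 := by decide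
      intro i hi
      exact h3 _ (by rw [h1, h2 i hi])
    · have h2 : ∀ a b : Fin 4, ![1, 2, 2, 1] a = ![1, 2, 2, 1] b → a = b ∨ a = Fin.rev b := by decide
      intro i
      exact h2 _ _ (h1 i)
  · intro W _ _ cs
    exact Idx.index_pair cs (by decide) (by decide) (k := 1) (l := 2) (by decide) (by decide)

theorem three_E6 (hp : p.Prime) (hp2 : p ≠ 2) (h : HasRGDT p CoxeterMatrix.E₆ S) : ThreeInv S := by
  refine of_hasRGDT hp hp2 (by omega) h {3} ⟨3, rfl⟩ (fun σ hσ => ?_) ?_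
  · have h1 : ∀ i, ![1, 1, 2, 3, 2, 1] (σ i) = ![1, 1, 2, 3, 2, 1] i :=
      H681.GmnTypes.inv_step hσ (g := fun _ => 1) (fun _ => rfl) (by decide)
    have h2 : ∀ i, ![2, 3, 4, 5, 4, 2] (σ i) = ![2, 3, 4, 5, 4, 2] i :=
      H681.GmnTypes.inv_step hσ h1 (by decide)
    have h3 : ∀ a b : Fin 6, ![2, 3, 4, 5, 4, 2] a = ![2, 3, 4, 5, 4, 2] b → a = b ∨ a = ![5, 1, 4, 3, 2, 0] b := by
      decide
    refine ⟨?_, 1, sq_one σ ![5, 1, 4, 3, 2, 0] (by decide) fun i => h3 _ _ (h2 i)⟩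
    rw [Set.image_singleton]
    rcases h3 _ _ (h2 3) with h4 | h4
    · rw [h4]
    · rw [h4]
      rfl
  · intro W _ _ cs
    exact Idx.index_single cs 3 (j := 0) (k := 1) (by decide) (by decide)

theorem three_E7 (hp : p.Prime) (hp2 : p ≠ 2) (h : HasRGDT p CoxeterMatrix.E₇ S) : ThreeInv S := by
  refine of_hasRGDT hp hp2 (by omega) h {3} ⟨3, rfl⟩ (fun σ hσ => ?_) ?_
  · have h1 : ∀ i, ![1, 1, 2, 3, 2, 2, 1] (σ i) = ![1, 1, 2, 3, 2, 2, 1] i :=
      H681.GmnTypes.inv_step hσ (g := fun _ => 1) (fun _ => rfl) (by decide)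
    have h2 : ∀ i, ![2, 3, 4, 5, 5, 3, 2] (σ i) = ![2, 3, 4, 5, 5, 3, 2] i :=
      H681.GmnTypes.inv_step hσ h1 (by decide)
    have h3 : ∀ i, ![4, 5, 7, 12, 8, 7, 3] (σ i) = ![4, 5, 7, 12, 8, 7, 3] i :=
      H681.GmnTypes.inv_step hσ h2 (by decide)
    have h4 : ∀ a b : Fin 7, ![2, 3, 4, 5, 5, 3, 2] a = ![2, 3, 4, 5, 5, 3, 2] b →
      ![4, 5, 7, 12, 8, 7, 3] a = ![4, 5, 7, 12, 8, 7, 3] b → a = b := by decide
    have h5 : ∀ i, σ i = i := fun i => h4 _ _ (h2 i) (h3 i)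
    refine ⟨?_, 0, ?_⟩
    · rw [Set.image_singleton, h5]
    · rw [pow_zero, pow_one]
      exact Equiv.ext h5
  · intro W _ _ cs
    exact Idx.index_single cs 3 (j := 0) (k := 1) (by decide) (by decide)

theorem three_E8 (hp : p.Prime) (hp2 : p ≠ 2) (h : HasRGDT p CoxeterMatrix.E₈ S) : ThreeInv S := by
  refine of_hasRGDT hp hp2 (by omega) h {3} ⟨3, rfl⟩ (fun σ hσ => ?_) ?_
  · have h1 : ∀ i, ![1, 1, 2, 3, 2, 2, 2, 1] (σ i) = ![1, 1, 2, 3, 2, 2, 2, 1] i :=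
      H681.GmnTypes.inv_step hσ (g := fun _ => 1) (fun _ => rfl) (by decide)
    have h2 : ∀ i, ![2, 3, 4, 5, 5, 4, 3, 2] (σ i) = ![2, 3, 4, 5, 5, 4, 3, 2] i :=
      H681.GmnTypes.inv_step hσ h1 (by decide)
    have h3 : ∀ i, ![4, 5, 7, 12, 9, 8, 6, 3] (σ i) = ![4, 5, 7, 12, 9, 8, 6, 3] i :=
      H681.GmnTypes.inv_step hσ h2 (by decide)
    have h4 : ∀ a b : Fin 8, ![2, 3, 4, 5, 5, 4, 3, 2] a = ![2, 3, 4, 5, 5, 4, 3, 2] b →
      ![4, 5, 7, 12, 9, 8, 6, 3] a = ![4, 5, 7, 12, 9, 8, 6, 3] b → a = b := by decide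
    have h5 : ∀ i, σ i = i := fun i => h4 _ _ (h2 i) (h3 i)
    refine ⟨?_, 0, ?_⟩
    · rw [Set.image_singleton, h5]
    · rw [pow_zero, pow_one]
      exact Equiv.ext h5
  · intro W _ _ cs
    exact Idx.index_single cs 3 (j := 0) (k := 1) (by decide) (by decide)

end

end Cfsg.Agent.H601.OddDeg.Rows
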